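import Groth.Agent.Lib.Goren.InjDim
import Groth.Agent.Lib.Depth.CM
import Groth.Agent.Lib.RegLoc.GlobalDim
import Groth.Agent.Lib.RegLoc.Sop
import Mathlib.Algebra.Category.ModuleCat.Ext.Finite
import Mathlib.RingTheory.Ideal.AssociatedPrime.Localization

/-!
# Gorenstein local rings
-/

universe u

open CategoryTheory Abelian IsLocalRing RingTheory.Sequence Pointwise

namespace Groth.Agent.GorenLib

/-- The depth can be computed after a surjective change of rings. -/
theorem idealDepth_map_of_surjective {A B : Type u} [CommRing A] [CommRing B] [Algebra A B]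
    (hs : Function.Surjective (algebraMap A B)) (I : Ideal A) (M : Type u) [AddCommGroup M]
    [Module A M] [Module B M] [IsScalarTower A B M] :
    LocCoh.idealDepth (I.map (algebraMap A B)) M = LocCoh.idealDepth I M := by
  have htop : I.map (algebraMap A B) • (⊤ : Submodule B M) = ⊤ ↔ I • (⊤ : Submodule A M) = ⊤ := by
    rw [← Submodule.restrictScalars_inj A, Ideal.smul_restrictScalars,
      Submodule.restrictScalars_top]
  by_cases h : I • (⊤ : Submodule A M) = ⊤
  · rw [DepthLib.idealDepth_of_smul_top_eq_top h, DepthLib.idealDepth_of_smul_top_eq_top (htop.2 h)]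
  · rw [DepthLib.idealDepth_of_smul_top_ne_top h,
      DepthLib.idealDepth_of_smul_top_ne_top (htop.not.2 h)]
    refine le_antisymm (iSup₂_le fun rs hrs => ?_) (iSup₂_le fun rs hrs => ?_)
    · obtain ⟨ls, rfl, hls⟩ : ∃ ls : List A, ls.map (algebraMap A B) = rs ∧ ∀ r ∈ ls, r ∈ I := by
        have h1 := hrs.2
        clear hrs
        induction rs with
        | nil => exact ⟨[], rfl, by simp⟩
        | cons b rs ih =>
          obtain ⟨ls, rfl, hls⟩ := ih fun r hr => h1 r (List.mem_cons_of_mem _ hr)
          obtain ⟨a, ha, rfl⟩ := (Ideal.mem_map_iff_of_surjective _ hs).1 (h1 b List.mem_cons_self)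
          exact ⟨a :: ls, rfl, List.forall_mem_cons.2 ⟨ha, hls⟩⟩
      rw [List.length_map]
      exact le_iSup₂ (f := fun (l : List A) (_ : IsWeaklyRegular M l ∧ ∀ r ∈ l, r ∈ I) =>
        (l.length : ℕ∞)) ls ⟨(isWeaklyRegular_map_algebraMap_iff B M ls).1 hrs.1, hls⟩
    · rw [← List.length_map (algebraMap A B)]
      refine le_iSup₂ (f := fun (l : List B) (_ : IsWeaklyRegular M l ∧ ∀ r ∈ l,
        r ∈ I.map (algebraMap A B)) => (l.length : ℕ∞)) _
        ⟨(isWeaklyRegular_map_algebraMap_iff B M rs).2 hrs.1, fun r hr => ?_⟩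
      obtain ⟨a, ha, rfl⟩ := List.mem_map.1 hr
      exact Ideal.mem_map_of_mem _ (hrs.2 a ha)

variable {R : Type u} [CommRing R] {f : R}

/-- `R/(f)` as the quotient of `R` by `f`. -/
noncomputable def quotEquiv (f : R) : QuotSMulTop f R ≃ₗ[R] R ⧸ Ideal.span {f} :=
  (QuotSMulTop.equivQuotTensor f R).trans (TensorProduct.rid R _)

variable [IsLocalRing R] [IsNoetherianRing R]

omit [IsNoetherianRing R] in
theorem isLocalRing_quotient (hf : f ∈ maximalIdeal R) : IsLocalRing (R ⧸ Ideal.span {f}) :=
  RegLoc.isLocalRing_quotient fun h =>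
    (maximalIdeal.isMaximal R).ne_top (top_le_iff.1 (h ▸ (Ideal.span_singleton_le_iff_mem _).2 hf))

theorem depth_quotient_add_one (hf : f ∈ maximalIdeal R) (hreg : IsSMulRegular R f)
    [IsLocalRing (R ⧸ Ideal.span {f})] :
    LocCoh.depth (R ⧸ Ideal.span {f}) (R ⧸ Ideal.span {f}) + 1 = LocCoh.depth R R := by
  rw [LocCoh.depth, LocCoh.depth, RegLoc.maximalIdeal_quotient, ← Ideal.Quotient.algebraMap_eq,
    idealDepth_map_of_surjective (A := R) (B := R ⧸ Ideal.span {f}) Ideal.Quotient.mk_surjective,
    ← DepthLib.idealDepth_congr (quotEquiv f),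
    DepthLib.idealDepth_quotSMulTop_add_one hf hreg]

theorem ringKrullDim_quotient_add_one (hf : f ∈ maximalIdeal R) (hreg : IsSMulRegular R f) :
    ringKrullDim (R ⧸ Ideal.span {f}) + 1 = ringKrullDim R := by
  rw [← Module.supportDim_quotient_eq_ringKrullDim, ← Module.supportDim_eq_of_equiv (quotEquiv f),
    Module.supportDim_quotSMulTop_succ_eq_supportDim hreg hf, Module.supportDim_self_eq_ringKrullDim]

omit [IsLocalRing R] [IsNoetherianRing R] in
theorem exists_hasInjectiveDimensionLT_quotient (hreg : IsSMulRegular R f) {n : ℕ}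
    (h : HasInjectiveDimensionLT (ModuleCat.of R R) (n + 2)) :
    HasInjectiveDimensionLT (ModuleCat.of (R ⧸ Ideal.span {f}) (R ⧸ Ideal.span {f})) (n + 1) :=
  hasInjectiveDimensionLT_quot hreg n (ModuleCat.of R R) hreg h _
    (Ideal.Quotient.mk (Ideal.span {f})).toAddMonoidHom Ideal.Quotient.mk_surjective
    (fun r m => map_mul (Ideal.Quotient.mk (Ideal.span {f})) r m) fun m hm => by
      obtain ⟨a, ha⟩ := Ideal.mem_span_singleton'.1 (Ideal.Quotient.eq_zero_iff_mem.1 hm)
      exact ⟨a, (mul_comm f a).trans ha⟩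

omit [IsNoetherianRing R] in
/-- High `Ext` against the residue field lifts from `R/(f)` to `R`. -/
theorem subsingleton_ext_of_quotient (hf : f ∈ maximalIdeal R) (hreg : IsSMulRegular R f) {n : ℕ}
    (h : HasInjectiveDimensionLT (ModuleCat.of (R ⧸ Ideal.span {f}) (R ⧸ Ideal.span {f})) (n + 1))
    (i : ℕ) (hi : n + 2 ≤ i) :
    Subsingleton (Ext (ModuleCat.of R (ResidueField R)) (ModuleCat.of R R) i) := by
  have hX := hasInjectiveDimensionLT_restrictScalars hreg n _ h
  let e : (R ⧸ Ideal.span {f}) ≃ₗ[R] ((ModuleCat.restrictScalars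
      (Ideal.Quotient.mk (Ideal.span {f}))).obj (ModuleCat.of _ (R ⧸ Ideal.span {f}))) :=
    { toFun := fun x => x
      invFun := fun x => x
      map_add' := fun _ _ => rfl
      map_smul' := fun r x => by
        refine (Algebra.smul_def r x).trans ?_
        rfl
      left_inv := fun _ => rfl
      right_inv := fun _ => rfl }
  have hq : HasInjectiveDimensionLT (ModuleCat.of R (QuotSMulTop f R)) (n + 2) :=
    hasInjectiveDimensionLT_of_iso ((quotEquiv f).trans e).toModuleIso.symm _
  have hS := IsSMulRegular.smulShortComplex_shortExact (M := ModuleCat.of R R) hreg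
  refine subsingleton_of_forall_eq 0 fun a => ?_
  obtain ⟨j, rfl⟩ : ∃ j, i = j + 1 := ⟨i - 1, by omega⟩
  have h0 : ∀ k, n + 2 ≤ k → Subsingleton (Ext (ModuleCat.of R (ResidueField R))
      (ModuleCat.of R (QuotSMulTop f R)) k) := fun k hk =>
    HasInjectiveDimensionLT.subsingleton (hX := hq) _ (n + 2) k hk _
  have hzero : ∀ b : Ext (ModuleCat.of R (ResidueField R)) (ModuleCat.of R R) (j + 1), f • b = 0 := by
    intro b
    have hk : f • 𝟙 (ModuleCat.of R (ResidueField R)) = 0 := by
      ext x
      obtain ⟨r, rfl⟩ := residue_surjective x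
      change f • residue R r = 0
      rw [Algebra.smul_def]
      change residue R f * residue R r = 0
      rw [(residue_eq_zero_iff f).2 hf, zero_mul]
    rw [← Ext.mk₀_id_comp b, ← Ext.smul_comp, ← Ext.mk₀_smul, hk, Ext.mk₀_zero, Ext.zero_comp]
  obtain ⟨b, rfl⟩ := Ext.covariant_sequence_exact₂ _ hS a (@Subsingleton.elim _ (h0 _ hi) _ _)
  refine Eq.trans ?_ (hzero b)
  refine Eq.trans ?_ (Ext.smul_eq_comp_mk₀ b f).symm
  congr 2

/-- A self-injective Noetherian local ring has no prime but the maximal one. -/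
theorem eq_maximalIdeal_of_injective (h : Module.Injective R R) (p : Ideal R) [p.IsPrime] :
    p = maximalIdeal R := by
  by_contra hne
  obtain ⟨q, hq, hqp⟩ := Ideal.exists_minimalPrimes_le (I := Module.annihilator R R) (J := p) (by
    intro r hr
    have := Module.mem_annihilator.1 hr (1 : R)
    rw [smul_eq_mul, mul_one] at this
    simp [this])
  have hqm : q ≠ maximalIdeal R := fun e =>
    hne (le_antisymm (le_maximalIdeal (Ideal.IsPrime.ne_top inferInstance)) (e ▸ hqp))
  obtain ⟨hprime, a, ha⟩ := isAssociatedPrime_iff.1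
    (Module.associatedPrimes.minimalPrimes_annihilator_subset_associatedPrimes R R hq)
  have hka : ∀ z : R, z • a = 0 ↔ z ∈ q := fun z => by
    rw [ha, Submodule.mem_colon_singleton, Submodule.mem_bot]
  obtain ⟨x, hx, hxq⟩ := SetLike.not_le_iff_exists.1
    fun hle => hqm (le_antisymm (le_maximalIdeal hprime.ne_top) hle)
  -- the annihilator of `q` is divisible by `x`
  let N : Submodule R R := (⊥ : Submodule R R).colon (q : Set R)
  have hN : ∀ b, b ∈ N ↔ ∀ z ∈ q, b * z = 0 := fun b => by
    simp [N, Submodule.mem_annihilator]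
  have hdiv : N ≤ maximalIdeal R • N := by
    intro b hb
    let i : (R ⧸ q) →ₗ[R] R ⧸ q := x • LinearMap.id
    have hi : Function.Injective i := by
      rw [injective_iff_map_eq_zero]
      intro c hc
      obtain ⟨c, rfl⟩ := Submodule.Quotient.mk_surjective _ c
      change x • Submodule.Quotient.mk c = (0 : R ⧸ q) at hc
      rw [← Submodule.Quotient.mk_smul, Submodule.Quotient.mk_eq_zero] at hc
      exact (Submodule.Quotient.mk_eq_zero _).2 ((hprime.mem_or_mem hc).resolve_left hxq)
    obtain ⟨g, hg⟩ := h.out i hi (Submodule.liftQ q (LinearMap.toSpanSingleton R R b) fun z hz => by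
      rw [LinearMap.mem_ker, LinearMap.toSpanSingleton_apply, smul_eq_mul, mul_comm]
      exact (hN b).1 hb z hz)
    have h1 : b = x • g (Submodule.Quotient.mk 1) := by
      rw [← map_smul]
      have h2 := hg (Submodule.Quotient.mk 1)
      rw [Submodule.liftQ_apply, LinearMap.toSpanSingleton_apply, one_smul] at h2
      exact h2.symm
    rw [h1]
    refine Submodule.smul_mem_smul hx ((hN _).2 fun z hz => ?_)
    rw [mul_comm, ← smul_eq_mul, ← map_smul, ← Submodule.Quotient.mk_smul,
      (Submodule.Quotient.mk_eq_zero q).2 (by simpa using hz), map_zero]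
  have hbot := Submodule.eq_bot_of_le_smul_of_le_jacobson_bot _ _ (IsNoetherian.noetherian N) hdiv
    (maximalIdeal_le_jacobson _)
  have ha0 : a ∈ N := (hN a).2 fun z hz => by
    rw [mul_comm, ← smul_eq_mul, hka]; exact hz
  rw [hbot, Submodule.mem_bot] at ha0
  exact hprime.ne_top ((Ideal.eq_top_iff_one _).2 ((hka 1).1 (by rw [ha0, smul_zero])))

/-- Finite injective dimension at depth zero means self-injective. -/
theorem injective_of_depth_zero (hd : LocCoh.depth R R = 0) :
    ∀ n, HasInjectiveDimensionLT (ModuleCat.of R R) (n + 1) → Module.Injective R R := by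
  obtain ⟨m, hm0, hm⟩ := DepthLib.exists_ne_zero_smul_eq_zero (M := R) (I := maximalIdeal R)
    fun r hr hreg => by
      have := DepthLib.one_le_idealDepth_of_regular (M := R) hr hreg
      rw [show LocCoh.idealDepth (maximalIdeal R) R = 0 from hd] at this
      simp at this
  let φ : ResidueField R →ₗ[R] R :=
    (maximalIdeal R).liftQ (LinearMap.toSpanSingleton R R m) fun z hz => by simpa using hm z hz
  have hφ : Function.Injective φ := by
    refine LinearMap.ker_eq_bot.1 (Submodule.ker_liftQ_eq_bot _ _ _ fun z hz => ?_)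
    rw [LinearMap.mem_ker, LinearMap.toSpanSingleton_apply] at hz
    exact (IsLocalRing.mem_maximalIdeal z).2 fun hu => hm0 (hu.smul_eq_zero.1 hz)
  have hS := DepthLib.shortExact_of_linearMap hφ (Submodule.mkQ_surjective (LinearMap.range φ))
    (LinearMap.exact_map_mkQ_range φ)
  intro n
  induction n with
  | zero =>
    intro h
    rw [zero_add, ← injective_iff_hasInjectiveDimensionLT_one] at h
    exact (Module.injective_iff_injective_object R R).2 h
  | succ n ih =>
    intro h
    refine ih (hasInjectiveDimensionLT_of_residueField n fun i hi => ?_)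
    refine subsingleton_of_forall_eq 0 fun a => ?_
    have h1 : Subsingleton (Ext (ModuleCat.of R (R ⧸ LinearMap.range φ)) (ModuleCat.of R R) (i + 1)) :=
      HasInjectiveDimensionLT.subsingleton (hX := h) _ (n + 2) _ (by omega) _
    obtain ⟨b, rfl⟩ := Ext.contravariant_sequence_exact₁ hS _ a (n₁ := i + 1) (add_comm 1 i)
      (h1.elim _ _)
    have : Projective (ModuleCat.of R R) :=
      (IsProjective.iff_projective R).1 inferInstance
    obtain ⟨j, rfl⟩ : ∃ j, i = j + 1 := ⟨i - 1, by omega⟩
    rw [Ext.eq_zero_of_projective b]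
    simp

/-- A Gorenstein local ring: dimension, depth and injective dimension agree. -/
theorem gorenstein_invariants (d : ℕ) : ∀ (R : Type u) [CommRing R] [LocCoh.IsGorensteinLocalRing R],
    LocCoh.depth R R = d →
      ringKrullDim R = d ∧ HasInjectiveDimensionLT (ModuleCat.of R R) (d + 1) := by
  induction d with
  | zero =>
    intro R _ hG hd
    obtain ⟨n, hn⟩ := hG.exists_hasInjectiveDimensionLT
    have hinj := injective_of_depth_zero hd n (hasInjectiveDimensionLT_of_ge _ n (n + 1) n.le_succ)
    refine ⟨?_, ?_⟩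
    · have : Ring.KrullDimLE 0 R :=
        Ring.krullDimLE_zero_iff.2 fun I hI => by
          have := eq_maximalIdeal_of_injective hinj I
          rw [this]
          exact maximalIdeal.isMaximal R
      exact ringKrullDimZero_iff_ringKrullDim_eq_zero.1 this
    · rw [zero_add, ← injective_iff_hasInjectiveDimensionLT_one]
      exact (Module.injective_iff_injective_object R R).1 hinj
  | succ d ih =>
    intro R _ hG hd
    obtain ⟨n, hn⟩ := hG.exists_hasInjectiveDimensionLT
    obtain ⟨x, hx, hreg⟩ := DepthLib.exists_isSMulRegular_of_one_le_idealDepth (M := R)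
      (DepthLib.smul_top_ne_top (maximalIdeal.isMaximal R).ne_top)
      (show (1 : ℕ∞) ≤ LocCoh.idealDepth (maximalIdeal R) R by
        rw [show LocCoh.idealDepth (maximalIdeal R) R = _ from hd]
        exact_mod_cast Nat.succ_pos d)
    have := isLocalRing_quotient hx
    have hn' : HasInjectiveDimensionLT (ModuleCat.of R R) (n + 2) :=
      hasInjectiveDimensionLT_of_ge _ n (n + 2) (by omega)
    have hG' : LocCoh.IsGorensteinLocalRing (R ⧸ Ideal.span {x}) :=
      { exists_hasInjectiveDimensionLT := ⟨n + 1, exists_hasInjectiveDimensionLT_quotient hreg hn'⟩ }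
    have hd' : LocCoh.depth (R ⧸ Ideal.span {x}) (R ⧸ Ideal.span {x}) = d := by
      have h := depth_quotient_add_one hx hreg
      rw [hd, Nat.cast_succ] at h
      exact le_antisymm ((ENat.add_le_add_iff_right ENat.one_ne_top).1 h.le)
        ((ENat.add_le_add_iff_right ENat.one_ne_top).1 h.ge)
    obtain ⟨h1, h2⟩ := ih _ hd'
    refine ⟨?_, hasInjectiveDimensionLT_of_residueField (d + 1) fun i hi =>
      subsingleton_ext_of_quotient hx hreg h2 i hi⟩
    rw [← ringKrullDim_quotient_add_one hx hreg, h1]
    simp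

theorem isCohenMacaulayLocalRing_of_gorenstein {S : Type u} [CommRing S] [LocCoh.IsGorensteinLocalRing S] :
    LocCoh.IsCohenMacaulayLocalRing S where
  supportDim_eq_depth := by
    obtain ⟨d, hd⟩ := DepthLib.exists_depth_eq_natCast (R := S) (M := S)
    rw [Module.supportDim_self_eq_ringKrullDim, (gorenstein_invariants d S hd).1, hd]
    rfl

/-- For a Gorenstein local ring of dimension `n`. -/
theorem gorenstein_of_dim {S : Type u} [CommRing S] [LocCoh.IsGorensteinLocalRing S] {n : ℕ} (hn : ringKrullDim S = n) :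
    LocCoh.depth S S = n ∧ HasInjectiveDimensionLT (ModuleCat.of S S) (n + 1) ∧
      Nontrivial (Ext (ModuleCat.of S (ResidueField S)) (ModuleCat.of S S) n) := by
  obtain ⟨d, hd⟩ := DepthLib.exists_depth_eq_natCast (R := S) (M := S)
  obtain ⟨h1, h2⟩ := gorenstein_invariants d S hd
  obtain rfl : d = n := by
    rw [h1] at hn
    exact_mod_cast hn
  exact ⟨hd, h2, ((DepthLib.idealDepth_eq_iff d).1 hd).2⟩

end Groth.Agent.GorenLib
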