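import Groth.Agent.Lib.Goren.GorenQuot27
import Groth.Agent.Lib.LocCoh.Nonvanish
import Groth.Agent.Lib.LocCoh.Finiteness

/-!
# Finite length of local cohomology over quotients of Gorenstein local rings
-/

set_option autoImplicit false

universe u

open IsLocalRing

noncomputable section

namespace Groth.Agent.GorenLib

open Groth.Agent.LocCohLib

section general

variable {R : Type u} [CommRing R] [IsLocalRing R] [IsNoetherianRing R] (M : Type u) [AddCommGroup M] [Module R M]
  [Module.Finite R M]

theorem isFiniteLength_H_iff (i : ℕ) :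
    IsFiniteLength R (LocCoh.H (maximalIdeal R) i M) ↔
      maximalIdeal R ≤ (Module.annihilator R (LocCoh.H (maximalIdeal R) i M)).radical := by
  constructor
  · intro h
    obtain ⟨h1, -⟩ := isFiniteLength_iff_isNoetherian_isArtinian.1 h
    obtain ⟨k, hk⟩ := exists_pow_annihilates (isPowerTorsion (maximalIdeal R) i M)
    exact fun a ha => ⟨k, Module.mem_annihilator.2 (hk _ (Ideal.pow_mem_pow ha k))⟩
  · intro h
    obtain ⟨k, hk⟩ := Ideal.exists_pow_le_of_le_radical_of_fg h (IsNoetherian.noetherian _)
    haveI := isArtinian_H (R := R) i M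
    haveI : Module.Finite R (LocCoh.H (maximalIdeal R) i M) :=
      finite_of_isArtinian_of_pow k (LocCoh.H (maximalIdeal R) i M) (eq_bot_iff.2 (Submodule.smul_le.2 fun a ha x _ =>
        (Submodule.mem_bot R).2 (Module.mem_annihilator.1 (hk ha) x)))
    exact isFiniteLength_iff_isNoetherian_isArtinian.2 ⟨inferInstance, inferInstance⟩

omit [IsLocalRing R] [IsNoetherianRing R] in
theorem supportDim_localizedModule_minimal (p : Ideal R) [p.IsPrime] (hp : p ∈ (Module.annihilator R M).minimalPrimes) :
    Module.supportDim (Localization.AtPrime p) (LocalizedModule p.primeCompl M) ≤ 0 := by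
  haveI : Subsingleton (Module.support (Localization.AtPrime p) (LocalizedModule p.primeCompl M)) := by
    have huniq : ∀ x : Module.support (Localization.AtPrime p) (LocalizedModule p.primeCompl M),
        x.1.asIdeal.comap (algebraMap R (Localization.AtPrime p)) = p := fun x => by
      have hx := DepthLib.mem_support_comap p x.2
      rw [Module.support_eq_zeroLocus, PrimeSpectrum.mem_zeroLocus] at hx
      have hle : x.1.asIdeal.comap (algebraMap R (Localization.AtPrime p)) ≤ p :=
        (Ideal.comap_mono (IsLocalRing.le_maximalIdeal x.1.isPrime.ne_top)).trans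
          (Localization.AtPrime.under_maximalIdeal).le
      exact le_antisymm hle (hp.2 ⟨(PrimeSpectrum.comap (algebraMap R (Localization.AtPrime p)) x.1).isPrime, hx⟩ hle)
    exact ⟨fun x y => Subtype.ext (PrimeSpectrum.localization_comap_injective _ p.primeCompl
      (PrimeSpectrum.ext ((huniq x).trans (huniq y).symm)))⟩
  exact Order.krullDim_nonpos_of_subsingleton

omit [IsLocalRing R] [IsNoetherianRing R] in
theorem map_mem_support (p q : Ideal R) [p.IsPrime] [q.IsPrime] (hqp : q ≤ p) (hq : Module.annihilator R M ≤ q)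
    [h : (q.map (algebraMap R (Localization.AtPrime p))).IsPrime] :
    (⟨q.map (algebraMap R (Localization.AtPrime p)), h⟩ : PrimeSpectrum (Localization.AtPrime p)) ∈
      Module.support (Localization.AtPrime p) (LocalizedModule p.primeCompl M) := by
  have hs : (⟨q, inferInstance⟩ : PrimeSpectrum R) ∈ Module.support R M := by
    rw [Module.support_eq_zeroLocus, PrimeSpectrum.mem_zeroLocus]; exact hq
  obtain ⟨m, hm⟩ := Module.mem_support_iff_exists_annihilator.1 hs
  refine Module.mem_support_iff_exists_annihilator.2 ⟨LocalizedModule.mk m 1, fun z hz => ?_⟩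
  rw [Submodule.mem_annihilator_span_singleton] at hz
  obtain ⟨r, s, rfl⟩ := IsLocalization.exists_mk'_eq p.primeCompl z
  have hz' : (algebraMap R (Localization.AtPrime p) r) • (LocalizedModule.mk m 1 : LocalizedModule p.primeCompl M) = 0 := by
    rw [← IsLocalization.mk'_spec _ r s, mul_comm, mul_smul, hz, smul_zero]
  rw [algebraMap_smul, LocalizedModule.smul'_mk, ← LocalizedModule.zero_mk 1, LocalizedModule.mk_eq] at hz'
  obtain ⟨t, ht⟩ := hz'
  simp only [one_smul, smul_zero, Submonoid.smul_def, smul_smul] at ht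
  exact (IsLocalization.mk'_mem_map_algebraMap_iff p.primeCompl (Localization.AtPrime p) q r s).2
    ⟨(t : R), t.2, hm ((Submodule.mem_annihilator_span_singleton _ _).2 ht)⟩

theorem natCast_le_depth_iff_H (n : ℕ) :
    (n : ℕ∞) ≤ LocCoh.depth R M ↔ ∀ j < n, Subsingleton (LocCoh.H (maximalIdeal R) j M) :=
  (DepthLib.natCast_le_idealDepth_iff n).trans
    (vanishing_below_iff_of_support_eq (I := maximalIdeal R) (G := ModuleCat.of R M) (R ⧸ maximalIdeal R)
      (DepthLib.support_quotient _) n).symm

theorem natCast_lt_depth_add_iff (n e : ℕ) :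
    (n : ℕ∞) < LocCoh.depth R M + e ↔ ∀ j, j + e ≤ n → Subsingleton (LocCoh.H (maximalIdeal R) j M) := by
  have h : (n : ℕ∞) < LocCoh.depth R M + e ↔ ((n + 1 - e : ℕ) : ℕ∞) ≤ LocCoh.depth R M := by
    cases LocCoh.depth R M using ENat.recTopCoe with
    | top => simp
    | coe d => norm_cast; omega
  rw [h, natCast_le_depth_iff_H]
  exact ⟨fun H j hj => H j (by omega), fun H j hj => H j (by omega)⟩

end general

section quotient

variable {S R : Type u} [CommRing S] [LocCoh.IsGorensteinLocalRing S] [CommRing R] [IsNoetherianRing R] [IsLocalRing R]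
  [Algebra S R] (hs : Function.Surjective (algebraMap S R))
  (M : Type u) [AddCommGroup M] [Module R M] [Module.Finite R M]

include hs in
theorem isFiniteLength_H_quot_iff (i : ℕ) :
    IsFiniteLength R (LocCoh.H (maximalIdeal R) i M) ↔
      ∀ (p : Ideal R) [p.IsPrime], p ≠ maximalIdeal R → ∀ e j : ℕ, ringKrullDim (R ⧸ p) = e → j + e = i →
        Subsingleton (LocCoh.H (maximalIdeal (Localization.AtPrime p)) j (LocalizedModule p.primeCompl M)) := by
  letI : Module S M := Module.compHom M (algebraMap S R)
  haveI : IsScalarTower S R M := IsScalarTower.of_algebraMap_smul fun _ _ => rfl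
  rw [isFiniteLength_H_iff, le_radical_annihilator_H_quot_iff hs M]
  exact ⟨fun H p _ hp e j => H p (fun h => hp ((maximalIdeal.isMaximal R).eq_of_le (Ideal.IsPrime.ne_top ‹_›) h).symm) e j,
    fun H p _ hp e j => H p (fun h => hp h.ge) e j⟩

include hs in
theorem isFiniteLength_H_le_iff (n : ℕ) :
    (∀ i : ℕ, i ≤ n → IsFiniteLength R (LocCoh.H (maximalIdeal R) i M)) ↔
      ∀ (p : Ideal R) [p.IsPrime], p ≠ maximalIdeal R → ∀ e : ℕ, ringKrullDim (R ⧸ p) = e →
        (n : ℕ∞) < LocCoh.depth (Localization.AtPrime p) (LocalizedModule p.primeCompl M) + e := by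
  simp only [isFiniteLength_H_quot_iff hs M, natCast_lt_depth_add_iff]
  exact ⟨fun H p _ hp e he j hj => H (j + e) hj p hp e j he rfl,
    fun H i hi p _ hp e j he hj => H p hp e he j (hj.le.trans hi)⟩

include hs in
/-- Chains in quotients of Cohen-Macaulay local rings. -/
theorem dim_quotient_eq (p q : Ideal R) [p.IsPrime] [q.IsPrime] (hqp : q ≤ p) {a b : ℕ}
    (ha : ringKrullDim (R ⧸ q) = a) (hb : ringKrullDim (R ⧸ p) = b) :
    ((a : ℕ∞) : WithBot ℕ∞) ≤ ringKrullDim (Localization.AtPrime p ⧸ q.map (algebraMap R (Localization.AtPrime p))) + ((b : ℕ∞) : WithBot ℕ∞) := by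
  obtain ⟨N, hN⟩ := RegLoc.exists_dim_eq_nat (R := S)
  let P := p.comap (algebraMap S R)
  let Q := q.comap (algebraMap S R)
  have hQP : Q ≤ P := Ideal.comap_mono hqp
  have hdim : ∀ (r : Ideal R) [r.IsPrime], ringKrullDim (S ⧸ r.comap (algebraMap S R)) = ringKrullDim (R ⧸ r) :=
    fun r _ => ringKrullDim_eq_of_ringEquiv (RingEquiv.ofBijective
      (Ideal.quotientMap r (algebraMap S R) le_rfl) ⟨Ideal.quotientMap_injective, Ideal.quotientMap_surjective hs⟩)
  obtain ⟨hP, hhP⟩ := exists_height_eq P
  obtain ⟨hQ, hhQ⟩ := exists_height_eq Q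
  have e1 := height_add_dim hN P ((hdim p).trans hb) hhP
  have e2 := height_add_dim hN Q ((hdim q).trans ha) hhQ
  haveI := gorenstein_atPrime P
  haveI := isCohenMacaulayLocalRing_of_gorenstein (S := Localization.AtPrime P)
  have hd : Disjoint (P.primeCompl : Set S) (Q : Set S) := Set.disjoint_left.2 fun x hx hx' => hx (hQP hx')
  have hdp : Disjoint (p.primeCompl : Set R) (q : Set R) := Set.disjoint_left.2 fun x hx hx' => hx (hqp hx')
  haveI := IsLocalization.isPrime_of_isPrime_disjoint P.primeCompl (Localization.AtPrime P) Q inferInstance hd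
  haveI := IsLocalization.isPrime_of_isPrime_disjoint p.primeCompl (Localization.AtPrime p) q inferInstance hdp
  have h3 := ringKrullDim_eq_quotient_add_height (Q.map (algebraMap S (Localization.AtPrime P)))
    (Ideal.IsPrime.ne_top inferInstance)
  rw [IsLocalization.AtPrime.ringKrullDim_eq_height P, hhP] at h3
  have h4 : (Q.map (algebraMap S (Localization.AtPrime P))).height = Q.height := by
    exact IsLocalization.height_map_of_disjoint P.primeCompl Q hd
  rw [h4, hhQ] at h3
  let φ : Localization.AtPrime P →+* Localization.AtPrime p := Localization.localRingHom P p (algebraMap S R) rfl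
  have hφ : Function.Surjective φ := by
    intro y
    obtain ⟨x, s, rfl⟩ := IsLocalization.exists_mk'_eq p.primeCompl y
    obtain ⟨x, rfl⟩ := hs x
    obtain ⟨t, ht⟩ := hs (s : R)
    refine ⟨IsLocalization.mk' _ x (⟨t, fun h => s.2 (ht ▸ h)⟩ : P.primeCompl), ?_⟩
    rw [Localization.localRingHom_mk']
    congr 1
    exact Subtype.ext ht
  have hc : (q.map (algebraMap R (Localization.AtPrime p))).comap φ = Q.map (algebraMap S (Localization.AtPrime P)) := by
    rw [← IsLocalization.map_under P.primeCompl (Localization.AtPrime P)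
      ((q.map (algebraMap R (Localization.AtPrime p))).comap φ)]
    congr 1
    ext x
    rw [Ideal.mem_comap, Ideal.mem_comap, Localization.localRingHom_to_map]
    exact SetLike.ext_iff.1 (IsLocalization.under_map_of_isPrime_disjoint p.primeCompl (Localization.AtPrime p) inferInstance hdp)
      (algebraMap S R x)
  have h5 : ringKrullDim (Localization.AtPrime P ⧸ Q.map (algebraMap S (Localization.AtPrime P))) =
      ringKrullDim (Localization.AtPrime p ⧸ q.map (algebraMap R (Localization.AtPrime p))) :=
    ringKrullDim_eq_of_ringEquiv (RingEquiv.ofBijective (Ideal.quotientMap _ φ hc.ge)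
      ⟨Ideal.quotientMap_injective' hc.le, Ideal.quotientMap_surjective hφ⟩)
  rw [h5] at h3
  revert h3
  generalize ringKrullDim (Localization.AtPrime p ⧸ q.map (algebraMap R (Localization.AtPrime p))) = x
  intro h3
  induction x using WithBot.recBotCoe with
  | bot => exact absurd h3 (by simp)
  | coe x =>
    rw [← WithBot.coe_add, WithBot.coe_inj] at h3
    rw [← WithBot.coe_add, WithBot.coe_le_coe]
    cases x using ENat.recTopCoe with
    | top => simp
    | coe x =>
      norm_cast at h3 ⊢
      omega

include hs in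
theorem isFiniteLength_H_below_iff {n : ℕ} (hn : Module.supportDim R M = n) :
    (∀ i : ℕ, i < n → IsFiniteLength R (LocCoh.H (maximalIdeal R) i M)) ↔
      ((∀ p ∈ (Module.annihilator R M).minimalPrimes, ringKrullDim (R ⧸ p) = n) ∧
        ∀ (p : Ideal R) [p.IsPrime], p ≠ maximalIdeal R → Module.annihilator R M ≤ p →
          LocCoh.IsCohenMacaulayModule (Localization.AtPrime p) (LocalizedModule p.primeCompl M)) := by
  haveI : Nontrivial M := (Module.supportDim_ne_bot_iff_nontrivial R M).1 (by rw [hn]; exact WithBot.coe_ne_bot)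
  have hmem : ∀ (p : Ideal R) [p.IsPrime], Module.annihilator R M ≤ p →
      (⟨p, inferInstance⟩ : PrimeSpectrum R) ∈ Module.support R M := fun p _ hp => by
    rw [Module.support_eq_zeroLocus, PrimeSpectrum.mem_zeroLocus]; exact hp
  have hub : ∀ (p : Ideal R) [p.IsPrime], Module.annihilator R M ≤ p → ∀ e : ℕ, ringKrullDim (R ⧸ p) = e →
      Module.supportDim (Localization.AtPrime p) (LocalizedModule p.primeCompl M) + ((e : ℕ∞) : WithBot ℕ∞) ≤
        ((n : ℕ∞) : WithBot ℕ∞) := fun p _ hp e he => by
    have := DepthLib.supportDim_localizedModule_add_le p (hmem p hp)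
    rw [he, hn] at this
    exact this
  have hlhs : (∀ i : ℕ, i < n → IsFiniteLength R (LocCoh.H (maximalIdeal R) i M)) ↔
      ∀ (p : Ideal R) [p.IsPrime], p ≠ maximalIdeal R → ∀ e : ℕ, ringKrullDim (R ⧸ p) = e →
        (n : ℕ∞) ≤ LocCoh.depth (Localization.AtPrime p) (LocalizedModule p.primeCompl M) + e := by
    rcases n with _ | m
    · exact iff_of_true (fun i hi => absurd hi (Nat.not_lt_zero i)) fun p _ _ e _ => by simp
    · simp only [Nat.lt_succ_iff, isFiniteLength_H_le_iff hs M m, ENat.add_one_le_iff (ENat.natCast_ne_top m), Nat.cast_succ]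
  have key : ∀ (p : Ideal R) [p.IsPrime], Module.annihilator R M ≤ p → ∀ e : ℕ, ringKrullDim (R ⧸ p) = e →
      ((n : ℕ∞) ≤ LocCoh.depth (Localization.AtPrime p) (LocalizedModule p.primeCompl M) + e ↔
        LocCoh.IsCohenMacaulayModule (Localization.AtPrime p) (LocalizedModule p.primeCompl M) ∧
          ((n : ℕ∞) : WithBot ℕ∞) ≤ Module.supportDim (Localization.AtPrime p) (LocalizedModule p.primeCompl M) + ((e : ℕ∞) : WithBot ℕ∞)) := by
    intro p _ hp e he
    haveI : Nontrivial (LocalizedModule p.primeCompl M) := Module.mem_support_iff.1 (hmem p hp)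
    have h1 := DepthLib.depth_le_supportDim (R := Localization.AtPrime p) (M := LocalizedModule p.primeCompl M)
    obtain ⟨s, hs'⟩ := DepthLib.exists_supportDim_eq_natCast (R := Localization.AtPrime p) (M := LocalizedModule p.primeCompl M)
    obtain ⟨d, hd⟩ := DepthLib.exists_depth_eq_natCast (R := Localization.AtPrime p) (M := LocalizedModule p.primeCompl M)
    have h2 := hub p hp e he
    unfold LocCoh.IsCohenMacaulayModule
    rw [hs', hd] at h1 ⊢
    rw [hs'] at h2
    norm_cast at h1 h2 ⊢
    omega
  rw [hlhs]
  constructor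
  · intro H
    refine ⟨fun p hp => ?_, fun p _ hpm hp => ?_⟩
    · haveI := hp.1.1
      obtain ⟨e, he⟩ := DepthLib.exists_ringKrullDim_quotient_eq_natCast p hp.1.1.ne_top
      have hle : e ≤ n := by
        have := DepthLib.ringKrullDim_quotient_le_supportDim (hmem p hp.1.2)
        rw [he, hn] at this
        exact_mod_cast this
      suffices h : n ≤ e by rw [he, le_antisymm hle h]
      by_cases hpm : p = maximalIdeal R
      · have : Subsingleton (Module.support R M) := by
          have huniq : ∀ x : Module.support R M, x.1.asIdeal = p := fun x => by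
            have hx : Module.annihilator R M ≤ x.1.asIdeal := Module.mem_support_iff_of_finite.1 x.2
            exact le_antisymm (hpm ▸ IsLocalRing.le_maximalIdeal x.1.isPrime.ne_top)
              (hp.2 ⟨x.1.isPrime, hx⟩ (hpm ▸ IsLocalRing.le_maximalIdeal x.1.isPrime.ne_top))
          exact ⟨fun x y => Subtype.ext (PrimeSpectrum.ext ((huniq x).trans (huniq y).symm))⟩
        have h0 : Module.supportDim R M ≤ 0 := Order.krullDim_nonpos_of_subsingleton
        rw [hn] at h0
        have h0' : n ≤ 0 := by exact_mod_cast h0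
        omega
      have h := ((key p hp.1.2 e he).1 (H p hpm e he)).2.trans
        (add_le_add (supportDim_localizedModule_minimal M p hp) le_rfl)
      rw [zero_add] at h
      exact_mod_cast h
    · obtain ⟨e, he⟩ := DepthLib.exists_ringKrullDim_quotient_eq_natCast p (Ideal.IsPrime.ne_top ‹_›)
      exact ((key p hp e he).1 (H p hpm e he)).1
  · rintro ⟨heq, hCM⟩ p _ hpm e he
    by_cases hp : Module.annihilator R M ≤ p
    swap
    · haveI : Subsingleton (LocalizedModule p.primeCompl M) := by
        rw [← Module.notMem_support_iff (p := ⟨p, inferInstance⟩), Module.support_eq_zeroLocus, PrimeSpectrum.mem_zeroLocus]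
        exact hp
      rw [show LocCoh.depth (Localization.AtPrime p) (LocalizedModule p.primeCompl M) = ⊤ from
        DepthLib.idealDepth_of_smul_top_eq_top (Subsingleton.elim _ _), top_add]
      exact le_top
    refine (key p hp e he).2 ⟨hCM p hpm hp, ?_⟩
    obtain ⟨q, hq, hqp⟩ := Ideal.exists_minimalPrimes_le hp
    haveI := hq.1.1
    refine (dim_quotient_eq hs p q hqp (heq q hq) he).trans ?_
    gcongr
    haveI := IsLocalization.isPrime_of_isPrime_disjoint p.primeCompl (Localization.AtPrime p) q hq.1.1
      (Set.disjoint_left.2 fun x hx hx' => hx (hqp hx'))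
    exact DepthLib.ringKrullDim_quotient_le_supportDim (map_mem_support M p q hqp hq.1.2)

end quotient

end Groth.Agent.GorenLib
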