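import Groth.Agent.Lib.Goren.Basic
import Groth.Agent.Lib.LocCoh.Dim
import Groth.Agent.Lib.LocCoh.Restrict
import Groth.Agent.Lib.InjHull.Socle

/-!
# Local cohomology of Gorenstein local rings
-/

universe u

open CategoryTheory Abelian Groth.Agent.InjHullLib Groth.Agent.LocCohLib IsLocalRing

noncomputable section

namespace Groth.Agent.GorenLib

variable {R : Type u} [CommRing R] [IsNoetherianRing R] (I : Ideal R)

omit [IsNoetherianRing R] in
theorem injective_of_subsingleton (M : Type u) [AddCommGroup M] [Module R M] [Subsingleton M] :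
    Module.Injective R M := by
  rw [← Module.Baer.iff_injective]
  exact fun J g => ⟨0, fun x hx => Subsingleton.elim _ _⟩

omit [IsNoetherianRing R] in
theorem injective_of_equiv {M N : Type u} [AddCommGroup M] [Module R M] [AddCommGroup N] [Module R N]
    (e : M ≃ₗ[R] N) (h : Module.Injective R M) : Module.Injective R N := by
  rw [← Module.Baer.iff_injective] at h ⊢
  exact Module.Baer.of_equiv e h

omit [IsNoetherianRing R] in
/-- The image of an injective submodule by a map with injective kernel on it is injective. -/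
theorem injective_map {B C : Type u} [AddCommGroup B] [Module R B] [AddCommGroup C] [Module R C]
    (g : B →ₗ[R] C) (P : Submodule R B) (hP : Module.Injective R P)
    (hK : Module.Injective R (LinearMap.ker (g ∘ₗ P.subtype))) : Module.Injective R (P.map g) := by
  obtain ⟨D, hD⟩ := exists_isCompl_of_injective (LinearMap.ker (g ∘ₗ P.subtype)) hK
  have hDinj := injective_of_isCompl hD.symm hP
  let e1 := Submodule.quotientEquivOfIsCompl _ D hD
  let e2 := (g ∘ₗ P.subtype).quotKerEquivRange
  have h : LinearMap.range (g ∘ₗ P.subtype) = P.map g := by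
    rw [LinearMap.range_comp, Submodule.range_subtype]
  exact injective_of_equiv (e1.symm ≪≫ₗ e2 ≪≫ₗ LinearEquiv.ofEq _ _ h) hDinj

theorem injective_torsImage {A E : Type u} [AddCommGroup A] [Module R A] [AddCommGroup E] [Module R E]
    {f : A →ₗ[R] E} (hf : Function.Injective f) (hE : Module.Injective R E)
    (hA : Module.Injective R (powTors I A)) :
    Module.Injective R (torsImage I (LinearMap.range f).mkQ) := by
  have hK : Module.Injective R (LinearMap.ker ((LinearMap.range f).mkQ ∘ₗ (powTors I E).subtype)) := by
    have hmem : ∀ x : powTors I A, f x.1 ∈ powTors I E := fun x =>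
      mem_powTors_iff.2 ((mem_powTors_iff.1 x.2).imp fun n hn r hr => by
        rw [← map_smul, hn r hr, map_zero])
    let φ : powTors I A →ₗ[R] LinearMap.ker ((LinearMap.range f).mkQ ∘ₗ (powTors I E).subtype) :=
      LinearMap.codRestrict _ (LinearMap.codRestrict _ (f ∘ₗ (powTors I A).subtype) hmem) fun x =>
        (Submodule.Quotient.mk_eq_zero _).2 ⟨x.1, rfl⟩
    refine injective_of_equiv (LinearEquiv.ofBijective φ ⟨fun a b h => ?_, fun y => ?_⟩) hA
    · exact Subtype.ext (hf (congrArg (fun z => z.1.1) h))
    · obtain ⟨a, ha⟩ := (Submodule.Quotient.mk_eq_zero _).1 (LinearMap.mem_ker.1 y.2)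
      have ha' : a ∈ powTors I A := mem_powTors_iff.2 ((mem_powTors_iff.1 y.1.2).imp fun n hn r hr =>
        hf (by rw [map_smul, ha, map_zero]; exact hn r hr))
      exact ⟨⟨a, ha'⟩, Subtype.ext (Subtype.ext ha)⟩
  have hle : (powTors I E).map (LinearMap.range f).mkQ ≤ powTors I (E ⧸ LinearMap.range f) := by
    rintro _ ⟨b, hb, rfl⟩
    exact mem_powTors_iff.2 ((mem_powTors_iff.1 hb).imp fun n hn r hr => by
      rw [← map_smul, hn r hr, map_zero])
  exact injective_of_equiv (Submodule.comapSubtypeEquivOfLe hle).symm
    (injective_map _ _ (injective_powTors hE I) hK)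

theorem injective_powTors_coker {A E : Type u} [AddCommGroup A] [Module R A] [AddCommGroup E]
    [Module R E] {f : A →ₗ[R] E} (hf : Function.Injective f) (hE : Module.Injective R E)
    (hA : Module.Injective R (powTors I A)) (h1 : Module.Injective R (LocCoh.H I 1 A)) :
    Module.Injective R (powTors I (E ⧸ LinearMap.range f)) := by
  obtain ⟨e⟩ := nonempty_h1Equiv I hf (Submodule.mkQ_surjective _) f.exact_map_mkQ_range
    (have := Module.injective_object_of_injective_module R E; subsingleton_succ_of_injective I 0 _)
  obtain ⟨D, hD⟩ := exists_isCompl_of_injective _ (injective_torsImage I hf hE hA)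
  have hDi : Module.Injective R D :=
    injective_of_equiv (e.symm ≪≫ₗ Submodule.quotientEquivOfIsCompl _ D hD) h1
  have := injective_torsImage I hf hE hA
  have hprod : Module.Injective R (torsImage I (LinearMap.range f).mkQ × D) := by
    rw [← Module.Baer.iff_injective] at *
    intro J g
    obtain ⟨g₁, hg₁⟩ := this J (LinearMap.fst R _ _ ∘ₗ g)
    obtain ⟨g₂, hg₂⟩ := hDi J (LinearMap.snd R _ _ ∘ₗ g)
    exact ⟨g₁.prod g₂, fun x hx => Prod.ext (hg₁ x hx) (hg₂ x hx)⟩
  exact injective_of_equiv (Submodule.prodEquivOfIsCompl _ D hD) hprod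

/-- Injective dimension `≤ n` and vanishing below `n` give an injective `H^n`. -/
theorem injective_H_top (n : ℕ) : ∀ (M : Type u) [AddCommGroup M] [Module R M],
    HasInjectiveDimensionLT (ModuleCat.of R M) (n + 1) → Module.Injective R (powTors I M) →
      (∀ j, 0 < j → j < n → Subsingleton (LocCoh.H I j M)) → Module.Injective R (LocCoh.H I n M) := by
  induction n with
  | zero => exact fun M _ _ _ hT _ => injective_of_equiv (zeroEquiv I M).symm hT
  | succ n ih =>
    intro M _ _ hM hT hvan
    obtain ⟨E, _, _, f, hE, hf, hac⟩ := exists_injective_extension (R := R) M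
    have := Module.injective_object_of_injective_module R E
    have hS := DepthLib.shortExact_of_linearMap hf (Submodule.mkQ_surjective (LinearMap.range f))
      f.exact_map_mkQ_range
    have hC : HasInjectiveDimensionLT (ModuleCat.of R (E ⧸ LinearMap.range f)) (n + 1) :=
      (hS.hasInjectiveDimensionLT_X₃_iff n ‹_›).2 hM
    obtain ⟨e⟩ := nonempty_h1Equiv I hf (Submodule.mkQ_surjective _) f.exact_map_mkQ_range (hac I 0)
    cases n with
    | zero =>
      rw [zero_add, ← injective_iff_hasInjectiveDimensionLT_one] at hC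
      have hC' : Module.Injective R (E ⧸ LinearMap.range f) :=
        (Module.injective_iff_injective_object R _).2 hC
      obtain ⟨D, hD⟩ := exists_isCompl_of_injective _ (injective_torsImage I hf hE hT)
      exact injective_of_equiv ((Submodule.quotientEquivOfIsCompl _ D hD).symm ≪≫ₗ e)
        (injective_of_isCompl hD.symm (injective_powTors hC' I))
    | succ n =>
      have hT' : Module.Injective R (powTors I (E ⧸ LinearMap.range f)) :=
        injective_powTors_coker I hf hE hT
          (have := hvan 1 one_pos (by omega); injective_of_subsingleton _)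
      refine injective_of_equiv (δEquiv I hf (Submodule.mkQ_surjective _) f.exact_map_mkQ_range (n + 1)
        (hac I n) (hac I (n + 1))) (ih _ hC hT' fun j hj0 hj => ?_)
      obtain ⟨j, rfl⟩ : ∃ i, j = i + 1 := ⟨j - 1, by omega⟩
      exact (δEquiv I hf (Submodule.mkQ_surjective _) f.exact_map_mkQ_range (j + 1)
        (hac I j) (hac I (j + 1))).toEquiv.subsingleton_congr.2 (hvan (j + 2) (by omega) (by omega))

/-- A single injective local cohomology module bounds `Ext` from modules supported on `V(I)`. -/
theorem subsingleton_ext_of_single (d : ℕ) : ∀ (M : Type u) [AddCommGroup M] [Module R M],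
    Module.Injective R (powTors I M) → (∀ j, 0 < j → j ≠ d → Subsingleton (LocCoh.H I j M)) →
      Module.Injective R (LocCoh.H I d M) →
      ∀ (N : Type u) [AddCommGroup N] [Module R N] [Module.Finite R N],
        Module.support R N ⊆ PrimeSpectrum.zeroLocus I →
          ∀ i, d < i → Subsingleton (Ext (ModuleCat.of R N) (ModuleCat.of R M) i) := by
  induction d with
  | zero =>
    intro M _ _ hT hvan _ N _ _ _ hN i hi
    let T := powTors I M
    have hM' : ∀ q : ℕ, Subsingleton (LocCoh.H I q (M ⧸ T)) := by
      intro q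
      cases q with
      | zero =>
        refine subsingleton_of_forall_eq 0 fun y => ?_
        obtain ⟨w, rfl⟩ := hmap_g_surjective I T.injective_subtype T.mkQ_surjective
          (LinearMap.exact_subtype_mkQ T) 0 (subsingleton_of_isPowerTorsion I 0 T (isPowerTorsion_powTors I)) y
        apply zeroMap_injective I (M ⧸ T)
        rw [map_zero]
        refine (zeroMap_natural I T.mkQ w).trans ((Submodule.Quotient.mk_eq_zero T).2 ?_)
        exact (zeroEquiv I M w).2
      | succ q =>
        exact subsingleton_right I T.injective_subtype T.mkQ_surjective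
          (LinearMap.exact_subtype_mkQ T) (q + 1) (hvan _ (Nat.succ_pos q) (Nat.succ_ne_zero q))
          (subsingleton_of_isPowerTorsion I (q + 1) T (isPowerTorsion_powTors I))
    have h3 : Subsingleton (Ext (ModuleCat.of R N) (ModuleCat.of R (M ⧸ T)) i) :=
      (vanishing_below_iff I (ModuleCat.of R (M ⧸ T)) (i + 1)).1 (fun j _ => hM' j) N hN i
        (Nat.lt_succ_self i)
    have := Module.injective_object_of_injective_module R T
    have hS := DepthLib.shortExact_of_linearMap T.injective_subtype T.mkQ_surjective
      (LinearMap.exact_subtype_mkQ T)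
    refine subsingleton_of_forall_eq 0 fun x => ?_
    obtain ⟨y, rfl⟩ := Ext.covariant_sequence_exact₂ _ hS x (h3.elim _ _)
    obtain ⟨j, rfl⟩ : ∃ j, i = j + 1 := ⟨i - 1, by omega⟩
    rw [Ext.eq_zero_of_injective y]
    simp
  | succ d ih =>
    intro M _ _ hT hvan hd N _ _ _ hN i hi
    obtain ⟨E, _, _, f, hE, hf, hac⟩ := exists_injective_extension (R := R) M
    have := Module.injective_object_of_injective_module R E
    have hS := DepthLib.shortExact_of_linearMap hf (Submodule.mkQ_surjective (LinearMap.range f))
      f.exact_map_mkQ_range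
    have h1 : Module.Injective R (LocCoh.H I 1 M) := by
      by_cases h : (1 : ℕ) = d + 1
      · rw [h]; exact hd
      · have := hvan 1 one_pos h
        exact injective_of_subsingleton _
    have hT' := injective_powTors_coker I hf hE hT h1
    obtain ⟨j, rfl⟩ : ∃ j, i = j + 1 := ⟨i - 1, by omega⟩
    have h3 : Subsingleton (Ext (ModuleCat.of R N) (ModuleCat.of R (E ⧸ LinearMap.range f)) j) := by
      refine ih _ hT' (fun k hk0 hk => ?_) ?_ N hN j (by omega)
      · obtain ⟨k, rfl⟩ : ∃ l, k = l + 1 := ⟨k - 1, by omega⟩
        exact (δEquiv I hf (Submodule.mkQ_surjective _) f.exact_map_mkQ_range (k + 1)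
          (hac I k) (hac I (k + 1))).toEquiv.subsingleton_congr.2 (hvan (k + 2) (by omega) (by omega))
      · cases d with
        | zero => exact injective_of_equiv (zeroEquiv I _).symm hT'
        | succ d => exact injective_of_equiv (δEquiv I hf (Submodule.mkQ_surjective _)
            f.exact_map_mkQ_range (d + 1) (hac I d) (hac I (d + 1))).symm hd
    refine subsingleton_of_forall_eq 0 fun x => ?_
    obtain ⟨y, rfl⟩ := Ext.covariant_sequence_exact₁ _ hS x (Ext.eq_zero_of_injective _) rfl
    rw [h3.elim y 0]
    simp

section Local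

variable [IsLocalRing R]

omit [IsNoetherianRing R] in
/-- Vanishing of `H^j_m` below the depth. -/
theorem subsingleton_H_lt_depth [IsNoetherianRing R] (n : ℕ) (hd : (n : ℕ∞) ≤ LocCoh.depth R R)
    (j : ℕ) (hj : j < n) : Subsingleton (LocCoh.H (maximalIdeal R) j R) :=
  (vanishing_below_iff_of_support_eq (I := maximalIdeal R) (G := ModuleCat.of R R) (R ⧸ maximalIdeal R)
    (DepthLib.support_quotient _) n).2 ((DepthLib.natCast_le_idealDepth_iff n).1 hd) j hj

end Local

/-- `H^d_m(R)` has simple socle for a Gorenstein local ring of dimension `d`. -/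
theorem exists_socle_generator (d : ℕ) : ∀ (R : Type u) [CommRing R] [LocCoh.IsGorensteinLocalRing R],
    LocCoh.depth R R = d → ∃ e : LocCoh.H (maximalIdeal R) d R, e ≠ 0 ∧
      (∀ a ∈ maximalIdeal R, a • e = 0) ∧
      ∀ y : LocCoh.H (maximalIdeal R) d R, (∀ a ∈ maximalIdeal R, a • y = 0) → ∃ c : R, y = c • e := by
  induction d with
  | zero =>
    intro R _ hG hd
    obtain ⟨n, hn⟩ := hG.exists_hasInjectiveDimensionLT
    have hinj := injective_of_depth_zero hd n (hasInjectiveDimensionLT_of_ge _ n (n + 1) n.le_succ)
    obtain ⟨a, ha0, ha⟩ := DepthLib.exists_ne_zero_smul_eq_zero (M := R) (I := maximalIdeal R)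
      fun r hr hreg => by
        have := DepthLib.one_le_idealDepth_of_regular (M := R) hr hreg
        rw [show LocCoh.idealDepth (maximalIdeal R) R = 0 from hd] at this
        simp at this
    have hmem : ∀ b : R, (∀ r ∈ maximalIdeal R, r • b = 0) → b ∈ powTors (maximalIdeal R) R :=
      fun b hb => mem_powTors_iff.2 ⟨1, fun r hr => hb r (by rwa [pow_one] at hr)⟩
    let z := zeroEquiv (maximalIdeal R) R
    refine ⟨z.symm ⟨a, hmem a ha⟩, fun h => ha0 ?_, fun r hr => ?_, fun y hy => ?_⟩
    · have := congrArg (fun w => (z w).1) h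
      simpa using this
    · rw [← map_smul]
      refine (congrArg z.symm (Subtype.ext (ha r hr))).trans (map_zero _)
    · let φ : ResidueField R →ₗ[R] R :=
        (maximalIdeal R).liftQ (LinearMap.toSpanSingleton R R a) fun r hr => by simpa using ha r hr
      have hφ : Function.Injective φ := by
        refine LinearMap.ker_eq_bot.1 (Submodule.ker_liftQ_eq_bot _ _ _ fun r hr => ?_)
        rw [LinearMap.mem_ker, LinearMap.toSpanSingleton_apply] at hr
        exact (IsLocalRing.mem_maximalIdeal r).2 fun hu => ha0 (hu.smul_eq_zero.1 hr)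
      have hy' : ∀ r ∈ maximalIdeal R, r • (z y).1 = 0 := fun r hr => by
        rw [← Submodule.coe_smul, ← map_smul, hy r hr, map_zero]; rfl
      let ψ : ResidueField R →ₗ[R] R :=
        (maximalIdeal R).liftQ (LinearMap.toSpanSingleton R R (z y).1) fun r hr => by simpa using hy' r hr
      obtain ⟨g, hg⟩ := hinj.out φ hφ ψ
      have h1 := hg (Submodule.Quotient.mk 1)
      change g (LinearMap.toSpanSingleton R R a 1) = LinearMap.toSpanSingleton R R (z y).1 1 at h1
      rw [LinearMap.toSpanSingleton_apply,
        LinearMap.toSpanSingleton_apply, one_smul, one_smul] at h1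
      refine ⟨g 1, z.injective (Subtype.ext ?_)⟩
      rw [map_smul, LinearEquiv.apply_symm_apply, Submodule.coe_smul, ← h1, smul_eq_mul, mul_comm,
        ← smul_eq_mul, ← map_smul, smul_eq_mul, mul_one]
  | succ d ih =>
    intro R _ hG hd
    obtain ⟨n, hn⟩ := hG.exists_hasInjectiveDimensionLT
    obtain ⟨x, hx, hreg⟩ := DepthLib.exists_isSMulRegular_of_one_le_idealDepth (M := R)
      (DepthLib.smul_top_ne_top (maximalIdeal.isMaximal R).ne_top)
      (show (1 : ℕ∞) ≤ LocCoh.idealDepth (maximalIdeal R) R by
        rw [show LocCoh.idealDepth (maximalIdeal R) R = _ from hd]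
        exact_mod_cast Nat.succ_pos d)
    let B := R ⧸ Ideal.span {x}
    have := isLocalRing_quotient hx
    have hG' : LocCoh.IsGorensteinLocalRing B :=
      { exists_hasInjectiveDimensionLT := ⟨n + 1, exists_hasInjectiveDimensionLT_quotient hreg
          (hasInjectiveDimensionLT_of_ge _ n (n + 2) (by omega))⟩ }
    have hd' : LocCoh.depth B B = d := by
      have h := depth_quotient_add_one hx hreg
      rw [hd, Nat.cast_succ] at h
      exact le_antisymm ((ENat.add_le_add_iff_right ENat.one_ne_top).1 h.le)
        ((ENat.add_le_add_iff_right ENat.one_ne_top).1 h.ge)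
    obtain ⟨e₀, he₀, hkill₀, hgen₀⟩ := ih B hd'
    have hm : (maximalIdeal R).map (algebraMap R B) = maximalIdeal B :=
      (RegLoc.maximalIdeal_quotient (I := Ideal.span {x})).symm
    obtain ⟨φ, hφ⟩ := exists_restrictScalars_addEquiv B (maximalIdeal R) d B
    obtain ⟨w⟩ := nonempty_congr_radical (I := maximalIdeal B) (J := (maximalIdeal R).map (algebraMap R B))
      (hm.symm.le.trans Ideal.le_radical) (hm.le.trans Ideal.le_radical) d B
    let ψ : LocCoh.H (maximalIdeal B) d B ≃+ LocCoh.H (maximalIdeal R) d B := w.toAddEquiv.trans φ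
    have hψ : ∀ (r : R) y, ψ (algebraMap R B r • y) = r • ψ y := fun r y => by
      change φ (w (algebraMap R B r • y)) = r • φ (w y)
      rw [map_smul, hφ]
    let mx : R →ₗ[R] R := x • LinearMap.id
    let q : R →ₗ[R] B := Submodule.mkQ (Ideal.span {x})
    have hexact : Function.Exact mx q := fun r => by
      constructor
      · intro h
        obtain ⟨a, ha⟩ := Ideal.mem_span_singleton'.1 ((Submodule.Quotient.mk_eq_zero _).1 h)
        exact ⟨a, (mul_comm x a).trans ha⟩
      · rintro ⟨a, rfl⟩
        exact (Submodule.Quotient.mk_eq_zero _).2 (Ideal.mem_span_singleton'.2 ⟨a, mul_comm a x⟩)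
    have hS := shortExact_mk mx q hreg (Submodule.mkQ_surjective _) hexact
    let D : LocCoh.H (maximalIdeal R) d B →ₗ[R] LocCoh.H (maximalIdeal R) (d + 1) R :=
      δ (maximalIdeal R) d hS
    have hD : Function.Injective D := by
      rw [injective_iff_map_eq_zero]
      intro y hy
      obtain ⟨v, rfl⟩ := (exact_map_δ (maximalIdeal R) d hS y).1 hy
      exact (congrArg _ ((subsingleton_H_lt_depth (d + 1) hd.ge d (Nat.lt_succ_self d)).elim v 0)).trans
        (map_zero _)
    refine ⟨D (ψ e₀), fun h => he₀ (ψ.injective (hD (h.trans ((map_zero D).symm.trans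
      (congrArg D (map_zero ψ).symm))))), fun a ha => ?_, fun y hy => ?_⟩
    · rw [← map_smul, ← hψ, hkill₀ _ (hm ▸ Ideal.mem_map_of_mem _ ha), map_zero, map_zero]
    · obtain ⟨v, rfl⟩ : y ∈ LinearMap.range D := (exact_δ_map (maximalIdeal R) d hS y).1 (by
        change hmap (maximalIdeal R) (d + 1) (x • LinearMap.id) y = 0
        rw [hmap_smul, hmap_id]
        exact hy x hx)
      obtain ⟨v, rfl⟩ := ψ.surjective v
      obtain ⟨c, hc⟩ := hgen₀ v fun b hb => by
        obtain ⟨a, rfl⟩ := Ideal.Quotient.mk_surjective b
        have ha : a ∈ maximalIdeal R := by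
          rw [← hm] at hb
          obtain ⟨a', ha', he⟩ := (Ideal.mem_map_iff_of_surjective _ Ideal.Quotient.mk_surjective).1 hb
          have hsub : a' - a ∈ Ideal.span {x} := Ideal.Quotient.eq.1 he
          have hle : Ideal.span {x} ≤ maximalIdeal R := (Ideal.span_singleton_le_iff_mem _).2 hx
          simpa using (maximalIdeal R).sub_mem ha' (hle hsub)
        refine ψ.injective (hD ?_)
        rw [map_zero, map_zero, show Ideal.Quotient.mk (Ideal.span {x}) a = algebraMap R B a from rfl,
          hψ, map_smul]
        exact hy a ha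
      obtain ⟨c, rfl⟩ := Ideal.Quotient.mk_surjective c
      exact ⟨c, by rw [hc, show Ideal.Quotient.mk (Ideal.span {x}) c = algebraMap R B c from rfl, hψ,
        map_smul]⟩

/-- The top local cohomology of a Gorenstein local ring is an injective hull of the residue field. -/
theorem exists_isInjectiveHull_H {R : Type u} [CommRing R] [LocCoh.IsGorensteinLocalRing R] {n : ℕ}
    (hn : ringKrullDim R = n) : ∃ g : ResidueField R →ₗ[R] LocCoh.H (maximalIdeal R) n R,
      InjHull.IsInjectiveHull g := by
  obtain ⟨hd, hinj, -⟩ := gorenstein_of_dim hn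
  have hT : Module.Injective R (powTors (maximalIdeal R) R) := by
    cases n with
    | zero =>
      have hR := injective_of_depth_zero hd 0 hinj
      exact injective_powTors hR _
    | succ n =>
      have := (zeroEquiv (maximalIdeal R) R).toEquiv.subsingleton_congr.1
        (subsingleton_H_lt_depth (n + 1) hd.ge 0 (Nat.succ_pos n))
      exact injective_of_subsingleton _
  have hH : Module.Injective R (LocCoh.H (maximalIdeal R) n R) :=
    injective_H_top (maximalIdeal R) n R hinj hT fun j _ hj => subsingleton_H_lt_depth n hd.ge j hj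
  obtain ⟨e, he0, hkill, hgen⟩ := exists_socle_generator n R hd
  let g : ResidueField R →ₗ[R] LocCoh.H (maximalIdeal R) n R :=
    (maximalIdeal R).liftQ (LinearMap.toSpanSingleton R _ e) fun r hr => LinearMap.mem_ker.2 (by rw [LinearMap.toSpanSingleton_apply]; exact hkill r hr)
  have hg : Function.Injective g := by
    refine LinearMap.ker_eq_bot.1 (Submodule.ker_liftQ_eq_bot _ _ _ fun r hr => ?_)
    rw [LinearMap.mem_ker, LinearMap.toSpanSingleton_apply] at hr
    exact (IsLocalRing.mem_maximalIdeal r).2 fun hu => he0 (hu.smul_left_cancel.1 (hr.trans (smul_zero r).symm))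
  refine ⟨g, isInjectiveHull_of_socle hH (isPowerTorsion _ n R) g hg fun y hy => ?_⟩
  obtain ⟨c, rfl⟩ := hgen y (mem_torsion_iff.1 hy)
  exact ⟨Submodule.Quotient.mk c, rfl⟩

theorem gorenstein_iff_single {A : Type u} [CommRing A] [IsLocalRing A] [IsNoetherianRing A] :
    LocCoh.IsGorensteinLocalRing A ↔
      ∃ d : ℕ, (∀ i : ℕ, i ≠ d → Subsingleton (LocCoh.H (maximalIdeal A) i A)) ∧
        Module.Injective A (LocCoh.H (maximalIdeal A) d A) := by
  constructor
  · intro h
    obtain ⟨n, hn⟩ := RegLoc.exists_dim_eq_nat (R := A)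
    obtain ⟨hd, -, -⟩ := gorenstein_of_dim (S := A) hn
    obtain ⟨g, hg⟩ := exists_isInjectiveHull_H (R := A) hn
    refine ⟨n, fun i hi => ?_, hg.isInjective⟩
    rcases lt_or_gt_of_ne hi with hlt | hgt
    · exact subsingleton_H_lt_depth n hd.ge i hlt
    · exact cdLE_of_ringKrullDim_le _ hn.le A i hgt
  · rintro ⟨d, hvan, hinj⟩
    refine { exists_hasInjectiveDimensionLT := exists_hasInjectiveDimensionLT_iff.2 ⟨d + 1, ?_⟩ }
    have hT : Module.Injective A (powTors (maximalIdeal A) A) := by
      refine injective_of_equiv (zeroEquiv (maximalIdeal A) A) ?_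
      by_cases h : (0 : ℕ) = d
      · rw [h]; exact hinj
      · have := hvan 0 h
        exact injective_of_subsingleton _
    intro i hi
    exact subsingleton_ext_of_single (maximalIdeal A) d A hT (fun j _ hj => hvan j hj) hinj
      (A ⧸ maximalIdeal A) (DepthLib.support_quotient _).le i (by omega)

end Groth.Agent.GorenLib
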