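import Groth.Agent.Lib.LocCoh.TopTensor
import Groth.Agent.Lib.LocCoh.Dim
import Groth.Agent.Lib.LocCoh.ExtCompare
import Groth.Agent.Lib.InjHull.HomTensor
import Groth.Agent.Lib.Goren.LocCohTop

/-!
# Local duality

`(Ext^j (M, K))^∨ ≅ H^{n-j}(M)` for finite `M` when the only local cohomology of the ring is `H^n = K^∨`.
-/

set_option autoImplicit false

universe u

open CategoryTheory TensorProduct IsLocalRing

noncomputable section

namespace Groth.Agent.GorenLib

open Groth.Agent.LocCohLib Groth.Agent.InjHullLib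

variable {R : Type u} [CommRing R] [IsNoetherianRing R]

/-- The hypotheses of local duality. -/
structure DualityData (I : Ideal R) (n : ℕ) (K E : Type u) [AddCommGroup K] [Module R K] [AddCommGroup E] [Module R E] where
  low : ∀ i, i < n → Subsingleton (LocCoh.H I i R)
  cd : LocCoh.CdLE R I n
  inj : Module.Injective R E
  e : (K →ₗ[R] E) ≃ₗ[R] LocCoh.H I n R

namespace DualityData

variable {I : Ideal R} {n : ℕ} {K E : Type u} [AddCommGroup K] [Module R K] [AddCommGroup E] [Module R E]
  (D : DualityData I n K E)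

include D in
theorem low_free (k i : ℕ) (hi : i < n) : Subsingleton (LocCoh.H I i (Fin k → R)) := by
  haveI := D.low i hi
  exact ((LinearEquiv.ofBijective _ (tensorTo_pi_bijective I i k)).symm.toEquiv).subsingleton

/-- Duality in the top degree. -/
def top (M : Type u) [AddCommGroup M] [Module R M] [Module.Finite R M] :
    ((M →ₗ[R] K) →ₗ[R] E) ≃ₗ[R] LocCoh.H I n M :=
  (LinearEquiv.ofBijective _ (homTensorMap_bijective (K := K) D.inj M)).symm ≪≫ₗ
    TensorProduct.congr (LinearEquiv.refl R M) D.e ≪≫ₗ tensorEquiv D.cd M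

theorem top_natural {M N : Type u} [AddCommGroup M] [Module R M] [Module.Finite R M] [AddCommGroup N] [Module R N]
    [Module.Finite R N] (f : M →ₗ[R] N) (φ : (M →ₗ[R] K) →ₗ[R] E) :
    D.top N (φ ∘ₗ LinearMap.lcomp R K f) = hmap I n f (D.top M φ) := by
  obtain ⟨z, rfl⟩ := (homTensorMap_bijective (K := K) D.inj M).2 φ
  have h1 : D.top M (homTensorMap K E M z) = tensorTo I n M (TensorProduct.congr (LinearEquiv.refl R M) D.e z) := by
    show tensorTo I n M (TensorProduct.congr (LinearEquiv.refl R M) D.e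
      ((LinearEquiv.ofBijective _ (homTensorMap_bijective (K := K) D.inj M)).symm (homTensorMap K E M z))) = _
    rw [LinearEquiv.ofBijective_symm_apply_apply]
  have h2 : D.top N (homTensorMap K E N (f.rTensor _ z)) =
      tensorTo I n N (TensorProduct.congr (LinearEquiv.refl R N) D.e (f.rTensor _ z)) := by
    show tensorTo I n N (TensorProduct.congr (LinearEquiv.refl R N) D.e
      ((LinearEquiv.ofBijective _ (homTensorMap_bijective (K := K) D.inj N)).symm (homTensorMap K E N (f.rTensor _ z)))) = _
    rw [LinearEquiv.ofBijective_symm_apply_apply]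
  rw [← homTensorMap_natural, h2, h1, ← tensorTo_natural]
  congr 1
  clear h1 h2
  induction z with
  | zero => simp
  | tmul m φ => simp
  | add a b ha hb => simp only [map_add, ha, hb]

/-- `Hom(M, K) = Ext^0(M, K)`. -/
def ext0 (M : Type u) [AddCommGroup M] [Module R M] (K : Type u) [AddCommGroup K] [Module R K] :
    Abelian.Ext (ModuleCat.of R M) (ModuleCat.of R K) 0 ≃ₗ[R] (M →ₗ[R] K) :=
  Abelian.Ext.linearEquiv₀.trans ModuleCat.homLinearEquiv

include D in
theorem duality : ∀ (j : ℕ) (M : Type u) [AddCommGroup M] [Module R M] [Module.Finite R M], j ≤ n →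
    Nonempty ((Abelian.Ext (ModuleCat.of R M) (ModuleCat.of R K) j →ₗ[R] E) ≃ₗ[R] LocCoh.H I (n - j) M) := by
  intro j
  induction j with
  | zero =>
    intro M _ _ _ _
    exact ⟨(LinearEquiv.congrLeft E R (ext0 M K)) ≪≫ₗ D.top M⟩
  | succ j ih =>
    intro M _ _ _ hj
    obtain ⟨k, π, hπ⟩ := Module.Finite.exists_fin' R M
    let f := (LinearMap.ker π).subtype
    have hS := shortExact_mk f π (LinearMap.ker π).injective_subtype hπ (LinearMap.exact_subtype_ker_map π)
    haveI hP : Projective (ModuleCat.of R (Fin k → R)) := (IsProjective.iff_projective _).1 inferInstance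
    haveI : Projective (ShortComplex.moduleCatMk f π (LinearMap.exact_subtype_ker_map π).linearMap_comp_eq_zero).X₂ := hP
    cases j with
    | succ j =>
      let p := (hS.extClass).precompOfLinear R (ModuleCat.of R K) (show 1 + (j + 1) = j + 1 + 1 by omega)
      have hp : Function.Bijective p := by
        constructor
        · rw [injective_iff_map_eq_zero]
          intro x hx
          obtain ⟨y, hy⟩ := Abelian.Ext.contravariant_sequence_exact₁ hS _ x (show 1 + (j + 1) = j + 1 + 1 by omega) hx
          rw [← hy, Abelian.Ext.eq_zero_of_projective y, Abelian.Ext.comp_zero]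
        · intro x
          exact Abelian.Ext.contravariant_sequence_exact₃ hS _ x
            (Abelian.Ext.eq_zero_of_projective (P := ModuleCat.of R (Fin k → R)) _) (show 1 + (j + 1) = j + 1 + 1 by omega)
      obtain ⟨e₁⟩ := ih (LinearMap.ker π) (by omega)
      refine ⟨(LinearEquiv.congrLeft E R (LinearEquiv.ofBijective p hp).symm) ≪≫ₗ e₁ ≪≫ₗ ?_⟩
      have hn : n - (j + 1) = n - (j + 1 + 1) + 1 := by omega
      rw [hn]
      exact (δEquiv I (LinearMap.ker π).injective_subtype hπ (LinearMap.exact_subtype_ker_map π) _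
        (D.low_free k _ (by omega)) (D.low_free k _ (by omega))).symm
    | zero =>
      obtain ⟨m, rfl⟩ : ∃ m, n = m + 1 := ⟨n - 1, by omega⟩
      show Nonempty ((Abelian.Ext (ModuleCat.of R M) (ModuleCat.of R K) 1 →ₗ[R] E) ≃ₗ[R] LocCoh.H I m M)
      let p : Abelian.Ext (ModuleCat.of R (LinearMap.ker π)) (ModuleCat.of R K) 0 →ₗ[R]
          Abelian.Ext (ModuleCat.of R M) (ModuleCat.of R K) 1 :=
        (hS.extClass).precompOfLinear R (ModuleCat.of R K) (rfl : 1 + 0 = 1)
      let d : (↥(LinearMap.ker π) →ₗ[R] K) →ₗ[R] Abelian.Ext (ModuleCat.of R M) (ModuleCat.of R K) 1 :=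
        p ∘ₗ (ext0 (LinearMap.ker π) K).symm.toLinearMap
      have hds : Function.Surjective d := fun x => by
        obtain ⟨y, hy⟩ := Abelian.Ext.contravariant_sequence_exact₃ hS (ModuleCat.of R K) x
          (Abelian.Ext.eq_zero_of_projective (P := ModuleCat.of R (Fin k → R)) _) (rfl : 1 + 0 = 1)
        exact ⟨ext0 _ K y, (congrArg p ((ext0 _ K).symm_apply_apply y)).trans hy⟩
      have hd0 : ∀ ψ, d ψ = hS.extClass.comp (Abelian.Ext.mk₀ (ModuleCat.ofHom ψ)) (rfl : 1 + 0 = 1) := fun ψ => rfl
      have hdk : LinearMap.ker d = LinearMap.range (LinearMap.lcomp R K f) := by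
        ext ψ
        rw [LinearMap.mem_ker, hd0, LinearMap.mem_range]
        constructor
        · intro h
          obtain ⟨y, hy⟩ := Abelian.Ext.contravariant_sequence_exact₁ hS (ModuleCat.of R K)
            (Abelian.Ext.mk₀ (ModuleCat.ofHom ψ)) (rfl : 1 + 0 = 1) h
          obtain ⟨g, rfl⟩ := (Abelian.Ext.mk₀_bijective _ _).2 y
          rw [Abelian.Ext.mk₀_comp_mk₀] at hy
          exact ⟨g.hom, congrArg ModuleCat.Hom.hom ((Abelian.Ext.mk₀_bijective _ _).1 hy)⟩
        · rintro ⟨g, rfl⟩
          exact ((congrArg (fun t => hS.extClass.comp t (rfl : 1 + 0 = 1))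
            (Abelian.Ext.mk₀_comp_mk₀ (ShortComplex.moduleCatMk f π (LinearMap.exact_subtype_ker_map π).linearMap_comp_eq_zero).f
              (ModuleCat.ofHom g)).symm).trans ((Abelian.Ext.comp_assoc_of_third_deg_zero _ _ _ _).symm.trans
                ((congrArg (fun t => Abelian.Ext.comp t _ (add_zero 1)) hS.extClass_comp).trans (Abelian.Ext.zero_comp _ _ _ _ _))))
      let a : (Abelian.Ext (ModuleCat.of R M) (ModuleCat.of R K) 1 →ₗ[R] E) →ₗ[R] LocCoh.H I (m + 1) (LinearMap.ker π) :=
        (D.top (LinearMap.ker π)).toLinearMap ∘ₗ LinearMap.lcomp R E d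
      have ha : Function.Injective a := fun x y h =>
        LinearMap.ext fun z => by
          obtain ⟨ψ, rfl⟩ := hds z
          exact LinearMap.congr_fun ((D.top _).injective h) ψ
      let δm : LocCoh.H I m M →ₗ[R] LocCoh.H I (m + 1) (LinearMap.ker π) := δ I m hS
      have hδ : Function.Injective δm := by
        rw [injective_iff_map_eq_zero]
        intro x hx
        obtain ⟨y, rfl⟩ := (exact_map_δ I m hS x).1 hx
        exact (congrArg _ ((D.low_free k m m.lt_succ_self).elim y 0)).trans (map_zero _)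
      have hr : LinearMap.range a = LinearMap.range δm := by
        ext x
        constructor
        · rintro ⟨φ, rfl⟩
          refine (exact_δ_map I m hS _).1 ?_
          refine (D.top_natural f _).symm.trans ?_
          rw [show (LinearMap.lcomp R E d φ) ∘ₗ LinearMap.lcomp R K f = 0 from LinearMap.ext fun g => by
            show φ (d (g ∘ₗ f)) = 0
            rw [LinearMap.mem_ker.1 (hdk ▸ ⟨g, rfl⟩ : g ∘ₗ f ∈ LinearMap.ker d), map_zero]]
          exact map_zero _
        · intro hx
          obtain ⟨ψ, rfl⟩ := (D.top _).surjective x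
          have h0 : ψ ∘ₗ LinearMap.lcomp R K f = 0 :=
            (D.top _).injective ((D.top_natural f ψ).trans (((exact_δ_map I m hS _).2 hx).trans (map_zero _).symm))
          have hle : LinearMap.ker d ≤ LinearMap.ker ψ := hdk ▸ fun x ⟨g, hg⟩ => hg ▸ LinearMap.congr_fun h0 g
          refine ⟨(LinearMap.ker d).liftQ ψ hle ∘ₗ (d.quotKerEquivOfSurjective hds).symm.toLinearMap,
            congrArg (D.top _) (LinearMap.ext fun z => ?_)⟩
          show (LinearMap.ker d).liftQ ψ hle ((d.quotKerEquivOfSurjective hds).symm (d z)) = ψ z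
          rw [show (d.quotKerEquivOfSurjective hds).symm (d z) = Submodule.Quotient.mk z from
            (LinearEquiv.symm_apply_eq _).2 (by simp)]
          rfl
      exact ⟨LinearEquiv.ofInjective a ha ≪≫ₗ LinearEquiv.ofEq _ _ hr ≪≫ₗ (LinearEquiv.ofInjective δm hδ).symm⟩

include D in
/-- In terms of Mathlib's `Ext`. -/
theorem duality' (j : ℕ) (M : Type u) [AddCommGroup M] [Module R M] [Module.Finite R M] (hj : j ≤ n) :
    Nonempty ((((Ext R (ModuleCat.{u} R) j).obj (Opposite.op (ModuleCat.of R M))).obj (ModuleCat.of R K) →ₗ[R] E) ≃ₗ[R]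
      LocCoh.H I (n - j) M) := by
  obtain ⟨e⟩ := D.duality j M hj
  exact ⟨LinearEquiv.congrLeft E R
    (((extNatIso (R := R) j).app (Opposite.op (ModuleCat.of R M))).app (ModuleCat.of R K)).toLinearEquiv ≪≫ₗ e⟩

end DualityData

theorem exists_dualityData {S : Type u} [CommRing S] [LocCoh.IsGorensteinLocalRing S] {n : ℕ} (hn : ringKrullDim S = n)
    {E : Type u} [AddCommGroup E] [Module S E] {f : ResidueField S →ₗ[S] E} (hf : InjHull.IsInjectiveHull f) :
    Nonempty (DualityData (maximalIdeal S) n S E) := by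
  obtain ⟨g, hg⟩ := exists_isInjectiveHull_H (R := S) hn
  obtain ⟨e, -⟩ := injectiveHull_unique hf hg
  exact ⟨⟨fun i hi => subsingleton_H_lt_depth n (gorenstein_of_dim hn).1.ge i hi,
    cdLE_of_ringKrullDim_le _ hn.le, hf.isInjective, LinearMap.ringLmapEquivSelf S S E ≪≫ₗ e⟩⟩

end Groth.Agent.GorenLib
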