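import Groth.Agent.Lib.EmbDef.Regular
import Groth.Agent.Lib.Goren.LocCohTop
import Groth.Agent.Lib.Goren15.Equiv
import Groth.Agent.S0343
import Groth.Agent.S11174
import Mathlib.RingTheory.Localization.Away.Basic
import Mathlib.RingTheory.Regular.RegularSequence

/-!
# The injective hull of the residue field of a Gorenstein ring through a system of parameters
-/

set_option autoImplicit false
universe u

open IsLocalRing RingTheory.Sequence

noncomputable section

namespace Groth.Agent.GorenLib

section Monomial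

variable {R : Type u} [CommRing R] {d : ℕ} (x : Fin d → R)

/-- The ideal generated by powers of the entries. -/
def monoIdeal (e : Fin d → ℕ) : Ideal R := Ideal.span (Set.range fun j => x j ^ e j)

theorem pow_mem_monoIdeal {e : Fin d → ℕ} {j : Fin d} {k : ℕ} (h : e j ≤ k) : x j ^ k ∈ monoIdeal x e := by
  rw [← Nat.sub_add_cancel h, pow_add]
  exact Ideal.mul_mem_left _ _ (Ideal.subset_span ⟨j, rfl⟩)

/-- Every entry is regular modulo powers of the others. -/
def RegSys : Prop :=
  ∀ (e : Fin d → ℕ) (i : Fin d) (a : R),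
    x i * a ∈ Ideal.span ((fun j => x j ^ e j) '' {j | j ≠ i}) → a ∈ Ideal.span ((fun j => x j ^ e j) '' {j | j ≠ i})

variable {x}

theorem monoIdeal_mono {e f : Fin d → ℕ} (h : ∀ j, f j ≤ e j) : monoIdeal x e ≤ monoIdeal x f :=
  Ideal.span_le.2 (by rintro _ ⟨j, rfl⟩; exact pow_mem_monoIdeal x (h j))

theorem cancel (hx : RegSys x) {e : Fin d → ℕ} {i : Fin d} {p : ℕ} (hp : p ≤ e i) {c : R}
    (h : x i ^ p * c ∈ monoIdeal x e) : c ∈ monoIdeal x (Function.update e i (e i - p)) := by
  have hs : Set.range (fun j => x j ^ e j) = insert (x i ^ e i) ((fun j => x j ^ e j) '' {j | j ≠ i}) := by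
    ext y
    constructor
    · rintro ⟨j, rfl⟩
      by_cases hj : j = i
      · subst hj; exact Set.mem_insert _ _
      · exact Set.mem_insert_of_mem _ ⟨j, hj, rfl⟩
    · rintro (rfl | ⟨j, -, rfl⟩)
      · exact ⟨i, rfl⟩
      · exact ⟨j, rfl⟩
  rw [monoIdeal, hs, Ideal.mem_span_insert] at h
  obtain ⟨r, z, hz, hc⟩ := h
  set J := Ideal.span ((fun j => x j ^ e j) '' {j | j ≠ i}) with hJ
  have key : ∀ (q : ℕ) (a : R), x i ^ q * a ∈ J → a ∈ J := by
    intro q
    induction q with
    | zero => intro a ha; simpa using ha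
    | succ q ih => intro a ha; exact ih _ (hx e i _ (by rwa [← mul_assoc, ← pow_succ']))
  have h1 : c - r * x i ^ (e i - p) ∈ J := key p _ (by
    have : x i ^ p * (c - r * x i ^ (e i - p)) = z := by
      rw [mul_sub, hc, show x i ^ p * (r * x i ^ (e i - p)) = r * x i ^ e i by
        rw [mul_left_comm, ← pow_add, Nat.add_sub_cancel' hp]]
      ring
    rw [this]; exact hz)
  have hJle : J ≤ monoIdeal x (Function.update e i (e i - p)) := Ideal.span_le.2 (by
    rintro _ ⟨j, hj, rfl⟩
    exact pow_mem_monoIdeal x (by rw [Function.update_of_ne hj]))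
  have h2 : r * x i ^ (e i - p) ∈ monoIdeal x (Function.update e i (e i - p)) :=
    Ideal.mul_mem_left _ _ (pow_mem_monoIdeal x (by rw [Function.update_self]))
  simpa using Ideal.add_mem _ (hJle h1) h2

theorem cancel_prod (hx : RegSys x) (p : ℕ) : ∀ (S : Finset (Fin d)) (e : Fin d → ℕ) (c : R),
    (∀ i ∈ S, p ≤ e i) → (∏ i ∈ S, x i ^ p) * c ∈ monoIdeal x e →
    c ∈ monoIdeal x (fun j => if j ∈ S then e j - p else e j) := by
  intro S
  induction S using Finset.induction_on with
  | empty => intro e c _ h; simpa using h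
  | insert k S hk ih =>
    intro e c hp h
    rw [Finset.prod_insert hk, mul_assoc] at h
    have h1 := ih (Function.update e k (e k - p)) c (fun i hi => by
      rw [Function.update_of_ne (by rintro rfl; exact hk hi)]; exact hp i (Finset.mem_insert_of_mem hi))
      (cancel hx (hp k (Finset.mem_insert_self k S)) h)
    refine monoIdeal_mono (fun j => ?_) h1
    by_cases hj : j = k
    · subst hj; simp [hk]
    · simp [Function.update_of_ne hj, hj]

theorem prod_pow_mul_mem_iff (hx : RegSys x) (p N : ℕ) (a : R) :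
    (∏ i, x i) ^ p * a ∈ monoIdeal x (fun _ => N + p) ↔ a ∈ monoIdeal x (fun _ => N) := by
  constructor
  · intro h
    rw [← Finset.prod_pow] at h
    simpa using cancel_prod hx p Finset.univ (fun _ => N + p) a (fun _ _ => Nat.le_add_left p N) h
  · intro h
    induction h using Submodule.span_induction with
    | mem y hy =>
      obtain ⟨j, rfl⟩ := hy
      rw [← Finset.prod_pow, ← Finset.mul_prod_erase _ _ (Finset.mem_univ j), mul_comm, ← mul_assoc, ← pow_add]
      exact Ideal.mul_mem_right _ _ (pow_mem_monoIdeal x (le_refl _))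
    | zero => simp
    | add y z _ _ hy hz => rw [mul_add]; exact Ideal.add_mem _ hy hz
    | smul r y _ hy => rw [smul_eq_mul, mul_left_comm]; exact Ideal.mul_mem_left _ _ hy

theorem mem_sup_of_forall (hx : RegSys x) {N M : ℕ} (hM : M ≤ N) (a : R) : ∀ S : Finset (Fin d),
    (∀ i ∈ S, a ∈ monoIdeal x (Function.update (fun _ => N) i M)) →
    a ∈ monoIdeal x (fun _ => N) ⊔ Ideal.span {∏ i ∈ S, x i ^ M} := by
  intro S
  induction S using Finset.induction_on with
  | empty => intro _; simp
  | insert k S hk ih =>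
    intro h
    obtain ⟨m, hm, y, hy, rfl⟩ := Submodule.mem_sup.1 (ih fun i hi => h i (Finset.mem_insert_of_mem hi))
    obtain ⟨c, rfl⟩ := Ideal.mem_span_singleton'.1 hy
    have hle : monoIdeal x (fun _ => N) ≤ monoIdeal x (Function.update (fun _ => N) k M) :=
      monoIdeal_mono fun j => by by_cases hj : j = k <;> simp [hj, hM]
    have hy' : (∏ i ∈ S, x i ^ M) * c ∈ monoIdeal x (Function.update (fun _ => N) k M) := by
      have := Ideal.sub_mem _ (h k (Finset.mem_insert_self k S)) (hle hm)
      rwa [add_sub_cancel_left, mul_comm] at this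
    have hc := cancel_prod hx M S _ c (fun i hi => by
      rw [Function.update_of_ne (by rintro rfl; exact hk hi)]; exact hM) hy'
    refine Ideal.add_mem _ (Ideal.mem_sup_left hm) ?_
    have htarget : monoIdeal x (fun j => if j ∈ S then Function.update (fun _ => N) k M j - M
        else Function.update (fun _ => N) k M j) ≤
        Submodule.comap (LinearMap.mulRight R (∏ i ∈ S, x i ^ M))
          (monoIdeal x (fun _ => N) ⊔ Ideal.span {∏ i ∈ insert k S, x i ^ M}) := by
      refine Ideal.span_le.2 ?_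
      rintro _ ⟨j, rfl⟩
      show x j ^ (if j ∈ S then Function.update (fun _ => N) k M j - M else Function.update (fun _ => N) k M j) *
        ∏ i ∈ S, x i ^ M ∈ monoIdeal x (fun _ => N) ⊔ Ideal.span {∏ i ∈ insert k S, x i ^ M}
      by_cases hjS : j ∈ S
      · refine Ideal.mem_sup_left ?_
        rw [if_pos hjS, Function.update_of_ne (by rintro rfl; exact hk hjS), ← Finset.mul_prod_erase _ _ hjS, ← mul_assoc,
          ← pow_add, Nat.sub_add_cancel hM]
        exact Ideal.mul_mem_right _ _ (pow_mem_monoIdeal x (le_refl _))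
      · rw [if_neg hjS]
        by_cases hjk : j = k
        · subst hjk
          rw [Function.update_self, Finset.prod_insert hk]
          exact Ideal.mem_sup_right (Ideal.mem_span_singleton_self _)
        · rw [Function.update_of_ne hjk]
          exact Ideal.mem_sup_left (Ideal.mul_mem_right _ _ (pow_mem_monoIdeal x (le_refl _)))
    exact htarget hc

theorem radical_monoIdeal (e : Fin d → ℕ) (he : ∀ j, 1 ≤ e j) :
    monoIdeal x e ≤ Ideal.span (Set.range x) ∧ Ideal.span (Set.range x) ≤ (monoIdeal x e).radical :=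
  ⟨Ideal.span_le.2 (by rintro _ ⟨j, rfl⟩; exact Ideal.pow_mem_of_mem _ (Ideal.subset_span (Set.mem_range_self j)) _ (he j)),
    Ideal.span_le.2 (by rintro _ ⟨j, rfl⟩; exact Ideal.mem_radical_iff.2 ⟨e j, Ideal.subset_span ⟨j, rfl⟩⟩)⟩

end Monomial

section CM

variable {R : Type u} [CommRing R] {d : ℕ} {x : Fin d → R}

theorem isWeaklyRegular_of_sop [LocCoh.IsCohenMacaulayLocalRing R] (hd : ringKrullDim R = d)
    (hx : (Ideal.span (Set.range x)).radical = maximalIdeal R) (l : List R) (hlen : l.length = d)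
    (hl : ∀ y ∈ l, y ∈ maximalIdeal R) (hrad : Ideal.span (Set.range x) ≤ (Ideal.ofList l).radical) :
    IsWeaklyRegular R l := by
  have hle : maximalIdeal R ≤ (Ideal.ofList l).radical := by
    rw [← hx]; exact Ideal.radical_le_radical_iff.2 hrad
  refine EmbDef.isWeaklyRegular_of_dim l hl ?_
  rw [EmbDef.ringKrullDim_quotient_eq_of_radical (P := Ideal.ofList l) (Q := maximalIdeal R) (Ideal.span_le.2 hl) hle,
    ringKrullDim_eq_zero_of_isField ((Ideal.Quotient.maximal_ideal_iff_isField_quotient _).1 inferInstance),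
    zero_add, hlen, hd]

theorem mem_maximalIdeal_of_sop [IsLocalRing R] (hx : (Ideal.span (Set.range x)).radical = maximalIdeal R) (i : Fin d) :
    x i ∈ maximalIdeal R := hx ▸ Ideal.le_radical (Ideal.subset_span ⟨i, rfl⟩)

theorem regSys_of_sop [LocCoh.IsCohenMacaulayLocalRing R] (hd : ringKrullDim R = d)
    (hx : (Ideal.span (Set.range x)).radical = maximalIdeal R) : RegSys x := by
  intro e i a ha
  by_cases h0 : ∃ j, j ≠ i ∧ e j = 0
  · obtain ⟨j, hj, hj0⟩ := h0
    have : (1 : R) ∈ Ideal.span ((fun j => x j ^ e j) '' {j | j ≠ i}) :=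
      Ideal.subset_span ⟨j, hj, by simp [hj0]⟩
    rw [(Ideal.eq_top_iff_one _).2 this]
    exact Submodule.mem_top
  · push Not at h0
    classical
    let others : List R := ((Finset.univ.erase i).toList.map fun j => x j ^ e j)
    have hlen' : others.length + 1 = d := by
      simp only [others, List.length_map, Finset.length_toList, Finset.card_erase_of_mem (Finset.mem_univ i),
        Finset.card_univ, Fintype.card_fin]
      have := i.isLt
      omega
    have hspan : Ideal.ofList others = Ideal.span ((fun j => x j ^ e j) '' {j | j ≠ i}) := by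
      refine congrArg Ideal.span (Set.ext fun y => ?_)
      simp [others, eq_comm]
    have hw := isWeaklyRegular_of_sop hd hx (others ++ [x i]) (by simpa using hlen') (fun y hy => by
        rcases List.mem_append.1 hy with hy | hy
        · obtain ⟨j, hj, rfl⟩ := List.mem_map.1 hy
          exact Ideal.pow_mem_of_mem _ (mem_maximalIdeal_of_sop hx j) _
            (Nat.one_le_iff_ne_zero.2 (h0 j (Finset.ne_of_mem_erase (Finset.mem_toList.1 hj))))
        · rw [List.mem_singleton.1 hy]; exact mem_maximalIdeal_of_sop hx i)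
      (Ideal.span_le.2 (by
        rintro _ ⟨j, rfl⟩
        by_cases hj : j = i
        · subst hj; exact Ideal.le_radical (Ideal.subset_span (by simp))
        · exact ⟨e j, Ideal.subset_span (by simp [others]; exact Or.inl ⟨j, hj, rfl⟩)⟩))
    have h := (EmbDef.isWeaklyRegular_self_iff _).1 hw others.length (by simp) a
    rw [List.getElem_append_right (le_refl _), List.take_left' rfl, hspan] at h
    simp only [Nat.sub_self, List.getElem_singleton] at h
    exact h (by rwa [mul_comm])

theorem gorenstein_quotient_ofList : ∀ (m : ℕ) (A : Type u) [CommRing A] [LocCoh.IsGorensteinLocalRing A]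
    (l : List A), l.length = m → IsWeaklyRegular A l → (∀ y ∈ l, y ∈ maximalIdeal A) →
    LocCoh.IsGorensteinLocalRing (A ⧸ Ideal.ofList l) := by
  intro m
  induction m with
  | zero =>
    intro A _ hA l hl _ _
    obtain rfl := List.length_eq_zero_iff.1 hl
    exact Goren15.isGorensteinLocalRing_of_ringEquiv (h := hA)
      ((RingEquiv.quotientBot A).symm.trans (Ideal.quotEquivOfEq (Ideal.ofList_nil (R := A)).symm))
  | succ m ih =>
    intro A _ _ l hl hw hm
    obtain ⟨f, l, rfl⟩ : ∃ f l', l = f :: l' := ⟨_, _, (List.cons_head_tail (by intro hn; simp [hn] at hl)).symm⟩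
    have hf : f ∈ maximalIdeal A := hm f List.mem_cons_self
    haveI := GorenLib.isLocalRing_quotient hf
    rw [isWeaklyRegular_cons_iff'] at hw
    haveI hG : LocCoh.IsGorensteinLocalRing (A ⧸ Ideal.span {f}) :=
      (Groth.Agent.S0343.result A f hf hw.1).1 inferInstance
    haveI : IsLocalHom (Ideal.Quotient.mk (Ideal.span {f})) :=
      IsLocalHom.of_surjective _ Ideal.Quotient.mk_surjective
    let e : QuotSMulTop f A ≃ₗ[A] A ⧸ Ideal.span ({f} : Set A) :=
      (QuotSMulTop.equivQuotTensor f A).trans (TensorProduct.rid A _)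
    have h := ih (A ⧸ Ideal.span {f}) (l.map (Ideal.Quotient.mk _)) (by simpa using hl)
      ((LinearEquiv.isWeaklyRegular_congr (M₂ := A ⧸ Ideal.span ({f} : Set A))
        (e.extendScalarsOfSurjective Ideal.Quotient.mk_surjective) _).1 hw.2)
      (fun y hy => by
        obtain ⟨z, hz, rfl⟩ := List.mem_map.1 hy
        exact map_mem_nonunits_iff (Ideal.Quotient.mk (Ideal.span {f})) z |>.2 (hm z (List.mem_cons_of_mem f hz)))
    exact Goren15.isGorensteinLocalRing_of_ringEquiv (h := h)
      (((Ideal.quotEquivOfEq (Ideal.map_ofList _ _).symm).trans (DoubleQuot.quotQuotEquivQuotSup _ _)).trans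
        (Ideal.quotEquivOfEq (Ideal.ofList_cons f l).symm))

theorem exists_socle_artinian (B : Type u) [CommRing B] [LocCoh.IsGorensteinLocalRing B]
    (h : ringKrullDim B = (0 : ℕ)) :
    ∃ e : B, e ≠ 0 ∧ (∀ a ∈ maximalIdeal B, a * e = 0) ∧
      ∀ y : B, (∀ a ∈ maximalIdeal B, a * y = 0) → ∃ c, y = c * e := by
  obtain ⟨hd, -, -⟩ := gorenstein_of_dim (S := B) h
  obtain ⟨g, hg0, hgm, hgen⟩ := exists_socle_generator 0 B hd
  let z := LocCohLib.zeroEquiv (maximalIdeal B) B
  refine ⟨(z g).1, fun h0 => hg0 (z.map_eq_zero_iff.1 (Subtype.ext h0)), fun a ha => ?_, fun y hy => ?_⟩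
  · have := congrArg (fun w => (z w).1) (hgm a ha)
    simpa using this
  · have hy' : y ∈ InjHullLib.powTors (maximalIdeal B) B :=
      InjHullLib.mem_powTors_iff.2 ⟨1, fun a ha => hy a (by rwa [pow_one] at ha)⟩
    obtain ⟨c, hc⟩ := hgen (z.symm ⟨y, hy'⟩) fun a ha => by
      rw [← map_smul]
      exact (congrArg z.symm (Subtype.ext (hy a ha))).trans (map_zero _)
    refine ⟨c, ?_⟩
    have := congrArg (fun w => (z w).1) hc
    simpa using this

end CM

section Fractions

variable {R : Type u} [CommRing R] {d : ℕ} (x : Fin d → R)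

/-- The fractions with numerator in the ideal of powers. -/
abbrev fracSub : Submodule R (Localization.Away (∏ i, x i)) :=
  Submodule.span R {y : Localization.Away (∏ i, x i) | ∃ (i : Fin d) (n : ℕ),
    y = algebraMap R (Localization.Away (∏ i, x i)) (x i ^ n) * IsLocalization.Away.invSelf (∏ i, x i) ^ n}

/-- `a / t^n`. -/
def frac (n : ℕ) : R →ₗ[R] Localization.Away (∏ i, x i) :=
  LinearMap.toSpanSingleton R _ (IsLocalization.Away.invSelf (∏ i, x i) ^ n)

theorem frac_apply (n : ℕ) (a : R) :
    frac x n a = algebraMap R _ a * IsLocalization.Away.invSelf (∏ i, x i) ^ n :=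
  Algebra.smul_def a _

theorem frac_succ (n k : ℕ) (a : R) : frac x (n + k) ((∏ i, x i) ^ k * a) = frac x n a := by
  rw [frac_apply, frac_apply, map_mul, map_pow, pow_add]
  have h : algebraMap R (Localization.Away (∏ i, x i)) (∏ i, x i) ^ k *
      IsLocalization.Away.invSelf (S := Localization.Away (∏ i, x i)) (∏ i, x i) ^ k = 1 := by
    rw [← mul_pow, IsLocalization.Away.mul_invSelf, one_pow]
  linear_combination (algebraMap R (Localization.Away (∏ i, x i)) a *
    IsLocalization.Away.invSelf (∏ i, x i) ^ n) * h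

theorem exists_eq_frac (y : Localization.Away (∏ i, x i)) : ∃ (n : ℕ) (a : R), y = frac x n a := by
  obtain ⟨n, a, h⟩ := IsLocalization.Away.surj (∏ i, x i) y
  refine ⟨n, a, ?_⟩
  rw [frac_apply, ← h, mul_assoc, ← mul_pow, IsLocalization.Away.mul_invSelf, one_pow, mul_one]

theorem frac_mem {n : ℕ} {a : R} (h : a ∈ monoIdeal x (fun _ => n)) : frac x n a ∈ fracSub x := by
  induction h using Submodule.span_induction with
  | mem y hy =>
    obtain ⟨i, rfl⟩ := hy
    exact Submodule.subset_span ⟨i, n, frac_apply x n _⟩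
  | zero => simp
  | add y z _ _ hy hz => rw [map_add]; exact Submodule.add_mem _ hy hz
  | smul r y _ hy => rw [map_smul]; exact Submodule.smul_mem _ _ hy

variable {x}

theorem exists_of_mem_fracSub (hx : RegSys x) {y : Localization.Away (∏ i, x i)} (hy : y ∈ fracSub x) :
    ∃ (N : ℕ) (b : R), b ∈ monoIdeal x (fun _ => N) ∧ y = frac x N b := by
  induction hy using Submodule.span_induction with
  | mem y hy =>
    obtain ⟨i, n, rfl⟩ := hy
    exact ⟨n, x i ^ n, Ideal.subset_span ⟨i, rfl⟩, (frac_apply x n _).symm⟩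
  | zero => exact ⟨0, 0, Submodule.zero_mem _, (map_zero _).symm⟩
  | add y z _ _ hy hz =>
    obtain ⟨N, b, hb, rfl⟩ := hy
    obtain ⟨M, c, hc, rfl⟩ := hz
    refine ⟨N + M, (∏ i, x i) ^ M * b + (∏ i, x i) ^ N * c, Ideal.add_mem _
      ((prod_pow_mul_mem_iff hx M N b).2 hb) ?_, ?_⟩
    · rw [add_comm N M]; exact (prod_pow_mul_mem_iff hx N M c).2 hc
    · rw [map_add, frac_succ, show N + M = M + N from add_comm N M, frac_succ]
  | smul r y _ hy =>
    obtain ⟨N, b, hb, rfl⟩ := hy
    exact ⟨N, r • b, Submodule.smul_mem _ _ hb, (map_smul _ r b).symm⟩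

theorem mem_of_frac_mem (hx : RegSys x) {n : ℕ} {a : R} (h : frac x n a ∈ fracSub x) :
    a ∈ monoIdeal x (fun _ => n) := by
  obtain ⟨N, b, hb, he⟩ := exists_of_mem_fracSub hx h
  rw [← frac_succ x n N, ← frac_succ x N n, add_comm N n, frac_apply, frac_apply] at he
  have he' : algebraMap R (Localization.Away (∏ i, x i)) ((∏ i, x i) ^ N * a) =
      algebraMap R _ ((∏ i, x i) ^ n * b) := by
    have hu : IsUnit (IsLocalization.Away.invSelf (S := Localization.Away (∏ i, x i)) (∏ i, x i)) :=
      IsUnit.of_mul_eq_one _ ((mul_comm _ _).trans (IsLocalization.Away.mul_invSelf _))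
    exact (hu.pow (n + N)).mul_right_cancel he
  obtain ⟨⟨s, K, rfl⟩, hK⟩ := (IsLocalization.eq_iff_exists (Submonoid.powers (∏ i, x i)) _).1 he'
  dsimp only at hK
  refine (prod_pow_mul_mem_iff hx (K + N) n a).1 ?_
  rw [pow_add, mul_assoc, hK, ← mul_assoc, ← pow_add, show n + (K + N) = N + (K + n) by omega]
  exact (prod_pow_mul_mem_iff hx (K + n) N b).2 hb

theorem exists_of_torsion (hx : RegSys x) {n N : ℕ} {a : R}
    (h : ∀ i, x i ^ n • frac x N a ∈ fracSub x) : ∃ c, frac x N a - frac x n c ∈ fracSub x := by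
  set t := ∏ i, x i
  have hy : frac x N a = frac x (N + n) (t ^ n * a) := (frac_succ x N n a).symm
  have h' : ∀ i, t ^ n * a ∈ monoIdeal x (Function.update (fun _ => N + n) i N) := fun i => by
    have h1 := h i
    rw [hy, ← map_smul, smul_eq_mul] at h1
    have h2 := cancel hx (p := n) (by simp) (mem_of_frac_mem hx h1)
    simpa using h2
  obtain ⟨m, hm, z, hz, hmz⟩ :=
    Submodule.mem_sup.1 (mem_sup_of_forall hx (Nat.le_add_right N n) _ Finset.univ fun i _ => h' i)
  obtain ⟨c, rfl⟩ := Ideal.mem_span_singleton'.1 hz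
  refine ⟨c, ?_⟩
  rw [hy, ← hmz, Finset.prod_pow, map_add, mul_comm c, add_comm N n, frac_succ, add_sub_cancel_right]
  exact frac_mem x (by rwa [add_comm n N])

end Fractions

theorem exists_isInjectiveHull_sop {R : Type u} [CommRing R] [LocCoh.IsGorensteinLocalRing R] (d : ℕ)
    (hd : ringKrullDim R = d) (x : Fin d → R) (hx : (Ideal.span (Set.range x)).radical = maximalIdeal R) :
    ∃ f : ResidueField R →ₗ[R] (Localization.Away (∏ i, x i) ⧸ fracSub x), InjHull.IsInjectiveHull f := by
  haveI : LocCoh.IsCohenMacaulayLocalRing R := isCohenMacaulayLocalRing_of_gorenstein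
  have hreg := regSys_of_sop hd hx
  have hxm := mem_maximalIdeal_of_sop hx
  let Q := Localization.Away (∏ i, x i) ⧸ fracSub x
  let a : ℕ → Ideal R := fun n => monoIdeal x (fun _ => n)
  let ι : ∀ n, R ⧸ a n →ₗ[R] Q := fun n =>
    (a n).liftQ ((fracSub x).mkQ ∘ₗ frac x n) fun b hb => (Submodule.Quotient.mk_eq_zero _).2 (frac_mem x hb)
  have hι : ∀ n, Function.Injective (ι n) := fun n => by
    refine LinearMap.ker_eq_bot.1 (Submodule.ker_liftQ_eq_bot _ _ _ fun b hb => ?_)
    exact mem_of_frac_mem hreg ((Submodule.Quotient.mk_eq_zero _).1 hb)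
  have hrange : ∀ n (q : Q), (∀ b ∈ a n, b • q = 0) → q ∈ LinearMap.range (ι n) := fun n q hq => by
    obtain ⟨q, rfl⟩ := Submodule.Quotient.mk_surjective _ q
    obtain ⟨N, b, rfl⟩ := exists_eq_frac x q
    obtain ⟨c, hc⟩ := exists_of_torsion hreg (n := n) (N := N) (a := b) fun i => by
      have := hq (x i ^ n) (Ideal.subset_span ⟨i, rfl⟩)
      rwa [← Submodule.Quotient.mk_smul, Submodule.Quotient.mk_eq_zero] at this
    exact ⟨Submodule.Quotient.mk c, ((Submodule.Quotient.eq _).2 hc).symm⟩
  have hrad : ∀ n, maximalIdeal R ≤ (a n).radical := fun n => by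
    rcases Nat.eq_zero_or_pos n with rfl | hn
    · rcases Nat.eq_zero_or_pos d with rfl | hd'
      · have h0 : a 0 = Ideal.span (Set.range x) := by
          simp [a, monoIdeal, Set.range_eq_empty]
        rw [h0, hx]
      · rw [(Ideal.eq_top_iff_one (a 0)).2 (by simpa using pow_mem_monoIdeal x (e := fun _ => 0) (j := ⟨0, hd'⟩) le_rfl),
          Ideal.radical_top]
        exact le_top
    · exact (hx ▸ Ideal.radical_le_radical_iff.2 (radical_monoIdeal (x := x) (fun _ => n) fun _ => hn).2 :)
  refine Groth.Agent.S11174.result R Q ?_ ?_ a (fun m n hmn => monoIdeal_mono fun _ => hmn) ?_ ?_ ?_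
  · intro q
    obtain ⟨q, rfl⟩ := Submodule.Quotient.mk_surjective _ q
    obtain ⟨N, b, rfl⟩ := exists_eq_frac x q
    obtain ⟨K, hK⟩ := Ideal.exists_pow_le_of_le_radical_of_fg_radical (hrad N) (IsNoetherian.noetherian _)
    refine ⟨K, fun r hr => ?_⟩
    have : r * b ∈ a N := Ideal.mul_mem_right _ _ (hK hr)
    rw [← Submodule.Quotient.mk_smul, Submodule.Quotient.mk_eq_zero, ← map_smul, smul_eq_mul]
    exact frac_mem x this
  · have h1 : a 1 = Ideal.ofList (List.ofFn x) := by
      rw [EmbDef.ofList_ofFn]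
      simp only [a, monoIdeal, pow_one]
    have hG : LocCoh.IsGorensteinLocalRing (R ⧸ a 1) :=
      Goren15.isGorensteinLocalRing_of_ringEquiv
        (h := gorenstein_quotient_ofList _ R (List.ofFn x) rfl
          (isWeaklyRegular_of_sop hd hx _ (List.length_ofFn ..) (fun y hy => by
            obtain ⟨i, rfl⟩ := (List.mem_ofFn' _ _).1 hy; exact hxm i)
            (by rw [EmbDef.ofList_ofFn]; exact Ideal.le_radical))
          (fun y hy => by obtain ⟨i, rfl⟩ := (List.mem_ofFn' _ _).1 hy; exact hxm i))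
        (Ideal.quotEquivOfEq h1.symm)
    have hmax : a 1 ≤ maximalIdeal R := Ideal.span_le.2 (by rintro _ ⟨i, rfl⟩; simpa using hxm i)
    have hdim : ringKrullDim (R ⧸ a 1) = (0 : ℕ) := by
      rw [EmbDef.ringKrullDim_quotient_eq_of_radical hmax (hrad 1),
        ringKrullDim_eq_zero_of_isField ((Ideal.Quotient.maximal_ideal_iff_isField_quotient _).1 inferInstance)]
      simp
    obtain ⟨e, he0, hem, hegen⟩ := exists_socle_artinian (R ⧸ a 1) hdim
    haveI : IsLocalHom (Ideal.Quotient.mk (a 1)) := IsLocalHom.of_surjective _ Ideal.Quotient.mk_surjective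
    have hmk : ∀ r ∈ maximalIdeal R, Ideal.Quotient.mk (a 1) r ∈ maximalIdeal (R ⧸ a 1) := fun r hr =>
      map_mem_nonunits_iff (Ideal.Quotient.mk (a 1)) r |>.2 hr
    let f₀ : ResidueField R →ₗ[R] Q := (maximalIdeal R).liftQ (LinearMap.toSpanSingleton R Q (ι 1 e))
      fun r hr => by
        have : r • e = 0 := by rw [Algebra.smul_def]; exact hem _ (hmk r hr)
        show r • ι 1 e = 0
        exact ((ι 1).map_smul r e).symm.trans ((congrArg (ι 1) this).trans (map_zero _))
    let ψ : R →ₗ[R] (ResidueField R →ₗ[R] Q) := LinearMap.toSpanSingleton R _ f₀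
    have hev : ∀ g : ResidueField R →ₗ[R] Q, ∀ r ∈ maximalIdeal R, r • g (Submodule.Quotient.mk 1) = 0 := fun g r hr => by
      rw [← map_smul]
      refine (congrArg g ?_).trans (map_zero g)
      exact (congrArg (Submodule.Quotient.mk (p := maximalIdeal R)) (mul_one r)).trans
        ((Submodule.Quotient.mk_eq_zero _).2 hr)
    have hsurj : Function.Surjective ψ := fun g => by
      obtain ⟨u, hu⟩ := hrange 1 _ fun r hr => hev g r (hmax hr)
      obtain ⟨c, hc⟩ := hegen u fun b hb => by
        obtain ⟨r, rfl⟩ := Ideal.Quotient.mk_surjective b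
        refine hι 1 ?_
        rw [map_zero, show Ideal.Quotient.mk (a 1) r * u = r • u from (Algebra.smul_def r u).symm, map_smul, hu]
        exact hev g r (map_mem_nonunits_iff (Ideal.Quotient.mk (a 1)) r |>.1 hb)
      obtain ⟨c, rfl⟩ := Ideal.Quotient.mk_surjective c
      refine ⟨c, Submodule.linearMap_qext _ (LinearMap.ext_ring ?_)⟩
      show c • ((1 : R) • ι 1 e) = g (Submodule.Quotient.mk 1)
      rw [one_smul, ← map_smul, ← hu, hc]
      exact congrArg (ι 1) (Algebra.smul_def c e)
    have hker : LinearMap.ker ψ = maximalIdeal R := by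
      ext r
      rw [LinearMap.mem_ker]
      constructor
      · intro h
        by_contra hr
        have h' := LinearMap.congr_fun h (Submodule.Quotient.mk 1)
        change r • ((1 : R) • ι 1 e) = 0 at h'
        rw [one_smul, ← map_smul] at h'
        have h2 : r • e = 0 := hι 1 (h'.trans (map_zero _).symm)
        exact he0 ((IsUnit.smul_eq_zero (Classical.not_not.1 hr : IsUnit r)).1 h2)
      · intro hr
        refine Submodule.linearMap_qext _ (LinearMap.ext_ring ?_)
        show r • ((1 : R) • ι 1 e) = 0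
        have : r • e = 0 := by rw [Algebra.smul_def]; exact hem _ (hmk r hr)
        rw [one_smul, ← map_smul, this, map_zero]
    exact ⟨(LinearMap.quotKerEquivOfSurjective ψ hsurj).symm ≪≫ₗ Submodule.quotEquivOfEq _ _ hker⟩
  · exact fun n => Ideal.exists_pow_le_of_le_radical_of_fg_radical (hrad n) (IsNoetherian.noetherian _)
  · exact fun N => ⟨N, Ideal.span_le.2 (by rintro _ ⟨i, rfl⟩; exact Ideal.pow_mem_pow (hxm i) N)⟩
  · intro n
    let θ : R ⧸ a n →ₗ[R] ((R ⧸ a n) →ₗ[R] Q) :=
      (a n).liftQ (LinearMap.toSpanSingleton R _ (ι n)) fun b hb => by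
        refine LinearMap.ext fun q => ?_
        obtain ⟨q, rfl⟩ := Submodule.Quotient.mk_surjective _ q
        show b • ι n (Submodule.Quotient.mk q) = 0
        rw [← map_smul, ← Submodule.Quotient.mk_smul, (Submodule.Quotient.mk_eq_zero _).2
          (show b • q ∈ a n from Ideal.mul_mem_right _ _ hb), map_zero]
    have hθ : ∀ c : R, θ (Submodule.Quotient.mk c) (Submodule.Quotient.mk 1) = ι n (Submodule.Quotient.mk c) := fun c => by
      show c • ι n (Submodule.Quotient.mk 1) = _
      rw [← map_smul, ← Submodule.Quotient.mk_smul, smul_eq_mul, mul_one]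
    refine LinearEquiv.length_eq (LinearEquiv.ofBijective θ ⟨fun u v huv => ?_, fun g => ?_⟩)
    · obtain ⟨u, rfl⟩ := Submodule.Quotient.mk_surjective _ u
      obtain ⟨v, rfl⟩ := Submodule.Quotient.mk_surjective _ v
      exact hι n ((hθ u).symm.trans ((congrArg (fun g => g (Submodule.Quotient.mk 1)) huv).trans (hθ v)))
    · obtain ⟨u, hu⟩ := hrange n (g (Submodule.Quotient.mk 1)) fun b hb => by
        rw [← map_smul, ← Submodule.Quotient.mk_smul, (Submodule.Quotient.mk_eq_zero _).2
          (show b • (1 : R) ∈ a n from Ideal.mul_mem_right _ _ hb), map_zero]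
      obtain ⟨u, rfl⟩ := Submodule.Quotient.mk_surjective _ u
      refine ⟨Submodule.Quotient.mk u, Submodule.linearMap_qext _ (LinearMap.ext_ring ?_)⟩
      exact (hθ u).trans hu

end Groth.Agent.GorenLib
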