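import Groth.Agent.S14424

/-!
Depth and height in Cohen-Macaulay local rings.
-/

universe u

namespace Groth.Agent.GorenLib

theorem idealDepth_eq_height {S : Type u} [CommRing S] [h : LocCoh.IsCohenMacaulayLocalRing S] (I : Ideal S) (hI : I ≠ ⊤) :
    LocCoh.idealDepth I S = I.height := by
  haveI : LocCoh.IsCohenMacaulayRing S := @LocCoh.IsCohenMacaulayRing.mk S _ _ fun p hp => by
    have hM : LocCoh.IsCohenMacaulayModule S S := h.supportDim_eq_depth
    obtain ⟨h1, -, -⟩ := DepthLib.isCohenMacaulayModule_localizedModule hM p (by rw [Module.support_eq_zeroLocus, PrimeSpectrum.mem_zeroLocus]; intro a ha; rw [SetLike.mem_coe, Module.mem_annihilator] at ha; have := ha 1; simp at this; simp [this])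
    refine @LocCoh.IsCohenMacaulayLocalRing.mk _ _ _ _ ?_
    unfold LocCoh.IsCohenMacaulayModule at h1
    rw [DepthLib.depth_localizedModule_self, DepthLib.supportDim_eq_ringKrullDim_of_isPrime] at h1
    rw [Module.supportDim_self_eq_ringKrullDim, IsLocalization.AtPrime.ringKrullDim_eq_height p]
    exact h1
  exact (S14424.result S).1 this I hI

theorem ringKrullDim_eq_quotient_add_height {S : Type u} [CommRing S] [h : LocCoh.IsCohenMacaulayLocalRing S]
    (I : Ideal S) (hI : I ≠ ⊤) : ringKrullDim S = ringKrullDim (S ⧸ I) + (I.height : WithBot ℕ∞) := by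
  have h2 := DepthLib.supportDim_eq_quotient_add_idealDepth (show LocCoh.IsCohenMacaulayModule S S from h.supportDim_eq_depth) hI
  rw [Module.supportDim_self_eq_ringKrullDim, idealDepth_eq_height I hI] at h2
  rw [h2, Module.supportDim_eq_of_equiv (Submodule.quotEquivOfEq (I • (⊤ : Submodule S S)) I (by rw [smul_eq_mul, Ideal.mul_top])),
    Module.supportDim_quotient_eq_ringKrullDim]

end Groth.Agent.GorenLib
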