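import Groth.Agent.Lib.Goren.LocalDuality27
import Groth.Agent.Lib.Goren.CMHeight27
import Groth.Agent.Lib.ExtLoc27.Basic
import Groth.Agent.Lib.InjHull.Matlis
import Groth.Agent.S0345
import Mathlib.Algebra.Category.ModuleCat.Ext.Finite

/-!
# Annihilators of local cohomology through local duality
-/

set_option autoImplicit false

universe u

open CategoryTheory IsLocalRing

noncomputable section

namespace Groth.Agent.GorenLib

open Groth.Agent.LocCohLib Groth.Agent.InjHullLib

variable {S : Type u} [CommRing S] [LocCoh.IsGorensteinLocalRing S]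

theorem gorenstein_atPrime (P : Ideal S) [P.IsPrime] : LocCoh.IsGorensteinLocalRing (Localization.AtPrime P) :=
  ((S0345.result S).1 LocCoh.IsGorensteinLocalRing.exists_hasInjectiveDimensionLT).1.isGorensteinLocalRing_localization P

theorem exists_height_eq (P : Ideal S) [P.IsPrime] : ∃ h : ℕ, P.height = h :=
  ⟨P.height.toNat, (ENat.natCast_toNat (Ideal.height_ne_top (Ideal.IsPrime.ne_top ‹_›))).symm⟩

theorem height_add_dim {N e h : ℕ} (hN : ringKrullDim S = N) (P : Ideal S) [P.IsPrime] (he : ringKrullDim (S ⧸ P) = e)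
    (hh : P.height = h) : N = e + h := by
  haveI := isCohenMacaulayLocalRing_of_gorenstein (S := S)
  have := ringKrullDim_eq_quotient_add_height P (Ideal.IsPrime.ne_top ‹_›)
  rw [hN, he, hh] at this
  have h2 : ((N : ℕ∞) : WithBot ℕ∞) = ((e : ℕ∞) : WithBot ℕ∞) + ((h : ℕ∞) : WithBot ℕ∞) := this
  rw [← WithBot.coe_add, WithBot.coe_inj] at h2
  exact_mod_cast h2

theorem subsingleton_dual_iff {R : Type u} [CommRing R] [IsLocalRing R] {E : Type u} [AddCommGroup E] [Module R E]
    {f : ResidueField R →ₗ[R] E} (hf : InjHull.IsInjectiveHull f) (X : Type u) [AddCommGroup X] [Module R X] :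
    Subsingleton (X →ₗ[R] E) ↔ Subsingleton X := by
  refine ⟨fun h => subsingleton_of_forall_eq 0 fun x => ?_,
    fun h => subsingleton_of_forall_eq 0 fun φ => LinearMap.ext fun x => by rw [h.elim x 0, map_zero, map_zero]⟩
  by_contra h0
  obtain ⟨φ, hφ⟩ := exists_dual_ne_zero hf h0
  exact hφ (by rw [h.elim φ 0, LinearMap.zero_apply])

/-- Vanishing of `Ext` into the localized ring through local cohomology. -/
theorem subsingleton_ext_iff_H {N : ℕ} (hN : ringKrullDim S = N) (M : Type u) [AddCommGroup M] [Module S M]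
    [Module.Finite S M] (j : ℕ) :
    Subsingleton (Abelian.Ext (ModuleCat.of S M) (ModuleCat.of S S) j) ↔
      ∀ i : ℕ, i + j = N → Subsingleton (LocCoh.H (maximalIdeal S) i M) := by
  obtain ⟨E, _, _, f, hf⟩ := exists_injective_hull S (ResidueField S)
  by_cases hj : j ≤ N
  · obtain ⟨D⟩ := exists_dualityData hN hf
    obtain ⟨e⟩ := D.duality j M hj
    rw [← subsingleton_dual_iff hf, e.toEquiv.subsingleton_congr]
    exact ⟨fun h i hi => by rwa [show i = N - j by omega], fun h => h _ (Nat.sub_add_cancel hj)⟩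
  · refine iff_of_true ?_ fun i hi => absurd hi (by omega)
    haveI := (gorenstein_of_dim hN).2.1
    exact HasInjectiveDimensionLT.subsingleton (ModuleCat.of S S) (N + 1) j (by omega) _

/-- Killed at `P` iff the local cohomology of the localization vanishes. -/
theorem locally_zero_ext_iff (P : Ideal S) [P.IsPrime] {h : ℕ} (hh : P.height = h) (M : Type u) [AddCommGroup M]
    [Module S M] [Module.Finite S M] (j : ℕ) :
    (∀ x : Abelian.Ext (ModuleCat.of S M) (ModuleCat.of S S) j, ∃ s : S, s ∉ P ∧ s • x = 0) ↔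
      ∀ i : ℕ, i + j = h →
        Subsingleton (LocCoh.H (maximalIdeal (Localization.AtPrime P)) i (LocalizedModule P.primeCompl M)) := by
  haveI := gorenstein_atPrime P
  obtain ⟨g, hg⟩ := ExtLoc.exists_isLocMap P.primeCompl (N := S) j M
  have hd : ringKrullDim (Localization.AtPrime P) = h := by
    rw [IsLocalization.AtPrime.ringKrullDim_eq_height P, hh]; rfl
  let e : LocalizedModule P.primeCompl S ≃ₗ[Localization.AtPrime P] Localization.AtPrime P :=
    (IsLocalizedModule.iso P.primeCompl (Algebra.linearMap S (Localization.AtPrime P))).extendScalarsOfIsLocalization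
      P.primeCompl (Localization.AtPrime P)
  let ee := (((extMod (R := Localization.AtPrime P) j).obj (Opposite.op (ModuleCat.of _ (LocalizedModule P.primeCompl M)))).mapIso
    e.toModuleIso).toLinearEquiv
  rw [← subsingleton_ext_iff_H hd (LocalizedModule P.primeCompl M) j]
  refine Iff.trans ?_ (hg.subsingleton_iff.symm.trans ee.toEquiv.subsingleton_congr)
  exact ⟨fun H x => ((H x).choose_spec).elim fun h1 h2 => ⟨⟨_, h1⟩, h2⟩,
    fun H x => ((H x)).elim fun s hs => ⟨s, s.2, hs⟩⟩

/-- The radical of the annihilator of `H^i_m(M)`. -/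
theorem le_radical_annihilator_H_iff {N : ℕ} (hN : ringKrullDim S = N) (M : Type u) [AddCommGroup M] [Module S M]
    [Module.Finite S M] (J : Ideal S) (i : ℕ) :
    J ≤ (Module.annihilator S (LocCoh.H (maximalIdeal S) i M)).radical ↔
      ∀ (P : Ideal S) [P.IsPrime], ¬ J ≤ P → ∀ e i' : ℕ, ringKrullDim (S ⧸ P) = e → i' + e = i →
        Subsingleton (LocCoh.H (maximalIdeal (Localization.AtPrime P)) i' (LocalizedModule P.primeCompl M)) := by
  obtain ⟨E, _, _, f, hf⟩ := exists_injective_hull S (ResidueField S)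
  by_cases hi : i ≤ N
  swap
  · have hsub : Subsingleton (LocCoh.H (maximalIdeal S) i M) :=
      cdLE_of_ringKrullDim_le (maximalIdeal S) hN.le M i (by omega)
    refine iff_of_true ?_ fun P _ _ e i' he hi' => ?_
    · rw [Module.annihilator_eq_top_iff.2 hsub, Ideal.radical_top]
      exact le_top
    · obtain ⟨h, hh⟩ := exists_height_eq P
      have := height_add_dim hN P he hh
      exact cdLE_of_ringKrullDim_le _ (d := h) (by rw [IsLocalization.AtPrime.ringKrullDim_eq_height P, hh]; rfl)
        (LocalizedModule P.primeCompl M) i' (by omega)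
  obtain ⟨D⟩ := exists_dualityData hN hf
  obtain ⟨e₀⟩ := D.duality (N - i) M (Nat.sub_le _ _)
  rw [Nat.sub_sub_self hi] at e₀
  let X := Abelian.Ext (ModuleCat.of S M) (ModuleCat.of S S) (N - i)
  have hann : Module.annihilator S (LocCoh.H (maximalIdeal S) i M) = Module.annihilator S X := by
    rw [← e₀.annihilator_eq, ← annihilator_dual hf]
  rw [hann]
  constructor
  · intro hJ P _ hJP e i' he hi'
    obtain ⟨h, hh⟩ := exists_height_eq P
    have hsum := height_add_dim hN P he hh
    obtain ⟨a, haJ, haP⟩ := SetLike.not_le_iff_exists.1 hJP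
    obtain ⟨k, hk⟩ := hJ haJ
    refine (locally_zero_ext_iff P hh M (N - i)).1 (fun x => ⟨a ^ k, fun hak => haP (Ideal.IsPrime.mem_of_pow_mem ‹_› k hak),
      Module.mem_annihilator.1 hk x⟩) i' (by omega)
  · intro H a ha
    by_contra hna
    rw [Ideal.radical_eq_sInf, Ideal.mem_sInf] at hna
    push Not at hna
    obtain ⟨P, ⟨hXP, hP⟩, haP⟩ := hna
    obtain ⟨h, hh⟩ := exists_height_eq P
    obtain ⟨e, he⟩ := DepthLib.exists_ringKrullDim_quotient_eq_natCast P hP.ne_top
    have hsum := height_add_dim hN P he hh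
    have h0 := (locally_zero_ext_iff P hh M (N - i)).2 fun i' hi' => H P (fun hJ => haP (hJ ha)) e i' he (by omega)
    have hsupp : (⟨P, hP⟩ : PrimeSpectrum S) ∈ Module.support S X := by
      rw [Module.support_eq_zeroLocus, PrimeSpectrum.mem_zeroLocus]; exact hXP
    exact (Module.notMem_support_iff'.2 h0) hsupp

end Groth.Agent.GorenLib
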