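import Groth.Agent.Lib.Goren.GorenDual27
import Groth.Agent.Lib.LocCoh.Restrict

/-!
# Annihilators of local cohomology over quotients of Gorenstein local rings
-/

set_option autoImplicit false

universe u

open CategoryTheory IsLocalRing

noncomputable section

namespace Groth.Agent.GorenLib

open Groth.Agent.LocCohLib

variable {S R : Type u} [CommRing S] [CommRing R] [Algebra S R] (hs : Function.Surjective (algebraMap S R))
  (M : Type u) [AddCommGroup M] [Module S M] [Module R M] [IsScalarTower S R M]

include hs in
theorem map_maximalIdeal_eq [IsLocalRing S] [IsLocalRing R] :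
    (maximalIdeal S).map (algebraMap S R) = maximalIdeal R :=
  IsLocalRing.eq_maximalIdeal ((Ideal.map_eq_top_or_isMaximal_of_surjective _ hs inferInstance).resolve_left
    fun h => by
      obtain ⟨a, ha, h1⟩ := (Ideal.mem_map_iff_of_surjective _ hs).1 (h.ge trivial : (1 : R) ∈ _)
      have hu := (IsLocalRing.isUnit_one_sub_self_of_mem_nonunits a ((IsLocalRing.mem_maximalIdeal a).1 ha)).map (algebraMap S R)
      rw [map_sub, map_one, h1, sub_self] at hu
      exact not_isUnit_zero hu)

include hs in
theorem subsingleton_H_at_surjective [IsNoetherianRing S] (p : Ideal R) [p.IsPrime] (P : Ideal S) [P.IsPrime]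
    (hP : P = p.comap (algebraMap S R)) [IsNoetherianRing R] (i : ℕ) :
    Subsingleton (LocCoh.H (maximalIdeal (Localization.AtPrime p)) i (LocalizedModule p.primeCompl M)) ↔
      Subsingleton (LocCoh.H (maximalIdeal (Localization.AtPrime P)) i (LocalizedModule P.primeCompl M)) := by
  subst hP
  let q := p.comap (algebraMap S R)
  let φ : Localization.AtPrime q →+* Localization.AtPrime p := Localization.localRingHom q p (algebraMap S R) rfl
  letI : Algebra (Localization.AtPrime q) (Localization.AtPrime p) := φ.toAlgebra
  have hφs : Function.Surjective (algebraMap (Localization.AtPrime q) (Localization.AtPrime p)) := by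
    intro y
    obtain ⟨b, s, rfl⟩ := IsLocalization.exists_mk'_eq p.primeCompl y
    obtain ⟨a, rfl⟩ := hs b
    obtain ⟨t, ht⟩ := hs (s : R)
    refine ⟨IsLocalization.mk' _ a (⟨t, fun h => s.2 (ht ▸ h)⟩ : q.primeCompl), ?_⟩
    change φ _ = _
    rw [Localization.localRingHom_mk']
    congr 1
    exact Subtype.ext ht
  let M' := LocalizedModule p.primeCompl M
  letI : Module (Localization.AtPrime q) M' := Module.compHom M' φ
  haveI : IsScalarTower (Localization.AtPrime q) (Localization.AtPrime p) M' :=
    IsScalarTower.of_algebraMap_smul fun _ _ => rfl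
  haveI : IsScalarTower S (Localization.AtPrime q) M' := IsScalarTower.of_algebraMap_smul fun a z => by
    change φ (algebraMap S _ a) • z = a • z
    rw [Localization.localRingHom_to_map, algebraMap_smul, algebraMap_smul]
  let g : M →ₗ[S] M' := (LocalizedModule.mkLinearMap p.primeCompl M).restrictScalars S
  haveI : IsLocalizedModule q.primeCompl g := by
    refine ⟨fun x => ?_, fun y => ?_, fun {x₁ x₂} e => ?_⟩
    · rw [Module.End.isUnit_iff]
      have hb := (Module.End.isUnit_iff _).1 (IsLocalizedModule.map_units
        (LocalizedModule.mkLinearMap p.primeCompl M) (⟨algebraMap S R x, x.2⟩ : p.primeCompl))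
      convert hb using 1
      funext z
      exact (algebraMap_smul R (x : S) z).symm
    · obtain ⟨⟨n, t⟩, hnt⟩ := IsLocalizedModule.surj p.primeCompl (LocalizedModule.mkLinearMap p.primeCompl M) y
      obtain ⟨a, ha⟩ := hs (t : R)
      refine ⟨⟨n, ⟨a, fun h => t.2 (ha ▸ h)⟩⟩, ?_⟩
      show a • y = _
      exact ((algebraMap_smul R a y).symm.trans (congrArg (· • y) ha)).trans hnt
    · obtain ⟨t, ht⟩ := IsLocalizedModule.exists_of_eq (S := p.primeCompl)
        (f := LocalizedModule.mkLinearMap p.primeCompl M) e
      obtain ⟨a, ha⟩ := hs (t : R)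
      refine ⟨⟨a, fun h => t.2 (ha ▸ h)⟩, ?_⟩
      show a • x₁ = a • x₂
      rw [← algebraMap_smul R a x₁, ← algebraMap_smul R a x₂, ha]
      exact ht
  rw [← map_maximalIdeal_eq hφs, subsingleton_restrictScalars_iff (Localization.AtPrime p) (maximalIdeal (Localization.AtPrime q)) M' i]
  exact (hcongr (maximalIdeal (Localization.AtPrime q)) i
    ((IsLocalizedModule.iso q.primeCompl g).extendScalarsOfIsLocalization q.primeCompl (Localization.AtPrime q)).symm).toEquiv.subsingleton_congr

variable [LocCoh.IsGorensteinLocalRing S] [IsNoetherianRing R] [IsLocalRing R] [Module.Finite R M]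

include hs in
theorem le_radical_annihilator_H_quot_iff (J : Ideal R) (i : ℕ) :
    J ≤ (Module.annihilator R (LocCoh.H (maximalIdeal R) i M)).radical ↔
      ∀ (p : Ideal R) [p.IsPrime], ¬ J ≤ p → ∀ e i' : ℕ, ringKrullDim (R ⧸ p) = e → i' + e = i →
        Subsingleton (LocCoh.H (maximalIdeal (Localization.AtPrime p)) i' (LocalizedModule p.primeCompl M)) := by
  haveI : Module.Finite S R := Module.Finite.of_surjective (Algebra.linearMap S R) hs
  haveI : Module.Finite S M := Module.Finite.trans R M
  obtain ⟨N, hN⟩ := RegLoc.exists_dim_eq_nat (R := S)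
  obtain ⟨φ, hφ⟩ := exists_restrictScalars_addEquiv R (maximalIdeal S) i M
  have hr : J ≤ (Module.annihilator R (LocCoh.H (maximalIdeal R) i M)).radical ↔
      J.comap (algebraMap S R) ≤ (Module.annihilator S (LocCoh.H (maximalIdeal S) i M)).radical := by
    rw [← map_maximalIdeal_eq hs]
    have key : ∀ a : S, algebraMap S R a ∈ Module.annihilator R (LocCoh.H ((maximalIdeal S).map (algebraMap S R)) i M) ↔
        a ∈ Module.annihilator S (LocCoh.H (maximalIdeal S) i M) := fun a => by
      simp only [Module.mem_annihilator]
      exact ⟨fun h x => by obtain ⟨y, rfl⟩ := φ.surjective x; rw [← hφ, h, map_zero],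
        fun h x => φ.injective (by rw [hφ, h, map_zero])⟩
    constructor
    · intro h a ha
      obtain ⟨k, hk⟩ := h ha
      exact ⟨k, (key _).1 (by rwa [map_pow])⟩
    · intro h b hb
      obtain ⟨a, rfl⟩ := hs b
      obtain ⟨k, hk⟩ := h (show a ∈ J.comap (algebraMap S R) from hb)
      exact ⟨k, by rw [← map_pow]; exact (key _).2 hk⟩
  rw [hr, le_radical_annihilator_H_iff hN M]
  constructor
  · intro H p _ hJp e i' he hi'
    have hdim : ringKrullDim (S ⧸ p.comap (algebraMap S R)) = e := by
      rw [← he]
      exact ringKrullDim_eq_of_ringEquiv (RingEquiv.ofBijective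
        (Ideal.quotientMap p (algebraMap S R) le_rfl) ⟨Ideal.quotientMap_injective, Ideal.quotientMap_surjective hs⟩)
    exact (subsingleton_H_at_surjective hs M p _ rfl i').2
      (H _ (fun h => hJp fun b hb => by obtain ⟨a, rfl⟩ := hs b; exact h hb) e i' hdim hi')
  · intro H P _ hJP e i' he hi'
    by_cases hk : RingHom.ker (algebraMap S R) ≤ P
    · haveI : (P.map (algebraMap S R)).IsPrime := Ideal.map_isPrime_of_surjective hs hk
      have hc : (P.map (algebraMap S R)).comap (algebraMap S R) = P := by
        rw [Ideal.comap_map_of_surjective _ hs, ← RingHom.ker_eq_comap_bot, sup_eq_left.2 hk]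
      have hdim : ringKrullDim (R ⧸ P.map (algebraMap S R)) = e := by
        rw [← he]
        exact (ringKrullDim_eq_of_ringEquiv (RingEquiv.ofBijective
          (Ideal.quotientMap (P.map (algebraMap S R)) (algebraMap S R) hc.ge)
          ⟨Ideal.quotientMap_injective' hc.le, Ideal.quotientMap_surjective hs⟩)).symm
      refine (subsingleton_H_at_surjective hs M (P.map (algebraMap S R)) P hc.symm i').1
        (H _ (fun h => hJP ?_) e i' hdim hi')
      exact hc ▸ Ideal.comap_mono h
    · obtain ⟨a, ha, haP⟩ := SetLike.not_le_iff_exists.1 hk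
      have : Subsingleton (LocalizedModule P.primeCompl M) := LocalizedModule.subsingleton_iff.2 fun m =>
        ⟨a, haP, by rw [← algebraMap_smul R a m, RingHom.mem_ker.1 ha, zero_smul]⟩
      exact subsingleton_of_supportDim_lt (maximalIdeal (Localization.AtPrime P)) (LocalizedModule P.primeCompl M) i'
        (by rw [Module.supportDim_eq_bot_of_subsingleton]; exact WithBot.bot_lt_coe _)

end Groth.Agent.GorenLib
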