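import Groth.Agent.Lib.Depth.More
import Groth.Agent.Lib.HomDim.Basic
import Mathlib.Algebra.Category.ModuleCat.ChangeOfRings
import Mathlib.Algebra.Category.ModuleCat.EnoughInjectives
import Mathlib.Algebra.Category.ModuleCat.Injective
import Mathlib.Algebra.Module.Torsion.Basic
import Mathlib.CategoryTheory.Abelian.Injective.Dimension

/-!
# Injective dimension: residue field criterion, change of rings along a regular element
-/

universe u

open CategoryTheory Abelian IsLocalRing

namespace Groth.Agent.GorenLib

variable {R : Type u} [CommRing R]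

section Local

variable [IsLocalRing R] [IsNoetherianRing R] {M : Type u} [AddCommGroup M] [Module R M]
  [Module.Finite R M]

/-- Vanishing against the residue field in all high degrees gives vanishing against every prime. -/
theorem subsingleton_ext_prime_of_residueField {N : ℕ}
    (h : ∀ i, N ≤ i → Subsingleton (Ext (ModuleCat.of R (ResidueField R)) (ModuleCat.of R M) i))
    (p : PrimeSpectrum R) : ∀ i, N ≤ i →
      Subsingleton (Ext (ModuleCat.of R (R ⧸ p.asIdeal)) (ModuleCat.of R M) i) := by
  induction p using (InvImage.wf PrimeSpectrum.asIdeal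
    (wellFounded_gt (α := Ideal R))).induction with
  | _ p ihp =>
    intro i hi
    by_cases hpm : maximalIdeal R ≤ p.asIdeal
    · have hp : p.asIdeal = maximalIdeal R := le_antisymm (le_maximalIdeal p.isPrime.ne_top) hpm
      let e : ResidueField R ≃ₗ[R] R ⧸ maximalIdeal R :=
        { toFun := id, invFun := id, map_add' := fun _ _ => rfl, map_smul' := fun _ _ => rfl,
          left_inv := fun _ => rfl, right_inv := fun _ => rfl }
      exact DepthLib.subsingleton_ext_of_linearEquiv
        ((Submodule.quotEquivOfEq _ _ hp).trans e.symm).toModuleIso (h i hi)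
    · obtain ⟨x, hx, hxp⟩ := SetLike.not_le_iff_exists.1 hpm
      refine DepthLib.subsingleton_ext_prime_of_notMem p hx hxp i fun q hq hxq =>
        ihp q (lt_of_le_of_ne hq fun e => hxp (e ▸ hxq)) (i + 1) (by omega)

theorem hasInjectiveDimensionLT_of_residueField (n : ℕ)
    (h : ∀ i, n + 1 ≤ i → Subsingleton (Ext (ModuleCat.of R (ResidueField R)) (ModuleCat.of R M) i)) :
    HasInjectiveDimensionLT (ModuleCat.of R M) (n + 1) :=
  HomDim.hasInjectiveDimensionLT_of_subsingleton_ext n _ fun I =>
    DepthLib.subsingleton_ext_of_forall_prime _ _ fun p _ =>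
      subsingleton_ext_prime_of_residueField h p _ le_rfl

/-- Finite injective dimension is detected by the residue field. -/
theorem exists_hasInjectiveDimensionLT_iff :
    (∃ n : ℕ, HasInjectiveDimensionLT (ModuleCat.of R M) n) ↔
      ∃ N : ℕ, ∀ i : ℕ, N ≤ i →
        Subsingleton (Ext (ModuleCat.of R (ResidueField R)) (ModuleCat.of R M) i) :=
  ⟨fun ⟨n, hn⟩ => ⟨n, fun i hi => HasInjectiveDimensionLT.subsingleton (hX := hn) _ n i hi _⟩,
    fun ⟨N, hN⟩ => ⟨N + 1, hasInjectiveDimensionLT_of_residueField N fun i hi => hN i (by omega)⟩⟩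

end Local

section Regular

variable {f : R} (hf : IsSMulRegular R f)

/-- An injective module is divisible by a regular element. -/
theorem exists_smul_eq_of_injective {E : Type u} [AddCommGroup E] [Module R E] (hf : IsSMulRegular R f)
    (hE : Module.Injective R E) (e : E) : ∃ y : E, f • y = e := by
  obtain ⟨g, hg⟩ := hE.out (LinearMap.mulLeft R f) (fun a b h => hf h)
    (LinearMap.toSpanSingleton R E e)
  refine ⟨g 1, ?_⟩
  rw [← map_smul]
  simpa using hg 1

variable (f) in
/-- The `f`-torsion, as a module over the quotient ring. -/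
noncomputable abbrev tor (M : ModuleCat.{u} R) : ModuleCat.{u} (R ⧸ Ideal.span {f}) :=
  ModuleCat.of _ (Submodule.torsionBy R M f)

theorem injective_tor (E : ModuleCat.{u} R) [Injective E] : Injective (tor f E) := by
  have hE : Module.Injective R E := Module.injective_module_of_injective_object R E
  rw [← Module.injective_iff_injective_object, ← Module.Baer.iff_injective]
  intro I g
  let J : Ideal R := I.comap (Ideal.Quotient.mk (Ideal.span {f}))
  let φ : J →ₗ[R] E :=
    { toFun := fun x => (g ⟨Ideal.Quotient.mk _ x.1, x.2⟩).1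
      map_add' := fun x y => congrArg Subtype.val
        (g.map_add ⟨Ideal.Quotient.mk _ x.1, x.2⟩ ⟨Ideal.Quotient.mk _ y.1, y.2⟩)
      map_smul' := fun r x => congrArg Subtype.val
        (g.map_smul (Ideal.Quotient.mk _ r) ⟨Ideal.Quotient.mk _ x.1, x.2⟩) }
  obtain ⟨h, hh⟩ := hE.out J.subtype J.injective_subtype φ
  have hfJ : f ∈ J := by
    change Ideal.Quotient.mk _ f ∈ I
    rw [Ideal.Quotient.eq_zero_iff_mem.2 (Ideal.mem_span_singleton_self f)]
    exact I.zero_mem
  have h1 : h 1 ∈ Submodule.torsionBy R E f := by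
    rw [Submodule.mem_torsionBy_iff, ← map_smul, smul_eq_mul, mul_one]
    refine (hh ⟨f, hfJ⟩).trans ?_
    have : (⟨Ideal.Quotient.mk _ f, hfJ⟩ : I) = 0 :=
      Subtype.ext (Ideal.Quotient.eq_zero_iff_mem.2 (Ideal.mem_span_singleton_self f))
    change (g ⟨Ideal.Quotient.mk _ f, hfJ⟩).1 = 0
    rw [this, map_zero]
    rfl
  refine ⟨LinearMap.toSpanSingleton _ _ ⟨h 1, h1⟩, fun x hx => ?_⟩
  obtain ⟨r, rfl⟩ := Ideal.Quotient.mk_surjective x
  refine Subtype.ext ?_
  change r • h 1 = (g ⟨_, hx⟩).1
  rw [← map_smul, smul_eq_mul, mul_one]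
  exact hh ⟨r, hx⟩

/-- Torsion as a map of modules over the quotient ring. -/
noncomputable def torMap {M N : ModuleCat.{u} R} (u : M ⟶ N) : tor f M ⟶ tor f N :=
  ModuleCat.ofHom
    { toFun := fun x => ⟨u.hom x.1, by
        rw [Submodule.mem_torsionBy_iff, ← map_smul, (Submodule.mem_torsionBy_iff f x.1).1 x.2,
          map_zero]⟩
      map_add' := fun x y => Subtype.ext (map_add u.hom x.1 y.1)
      map_smul' := fun r x => by
        obtain ⟨r, rfl⟩ := Ideal.Quotient.mk_surjective r
        exact Subtype.ext (u.hom.map_smul r x.1) }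

/-- For a divisible module the injective dimension of the torsion over the quotient ring is at
most that of the module. -/
theorem hasInjectiveDimensionLT_tor (hf : IsSMulRegular R f) (n : ℕ) (C : ModuleCat.{u} R)
    (hdiv : ∀ c : C, ∃ c', f • c' = c) (hC : HasInjectiveDimensionLT C (n + 1)) :
    HasInjectiveDimensionLT (tor f C) (n + 1) := by
  induction n generalizing C with
  | zero =>
    rw [zero_add, ← injective_iff_hasInjectiveDimensionLT_one] at hC ⊢
    exact injective_tor C
  | succ n ih =>
    let ⟨J, _, u, _⟩ := EnoughInjectives.presentation C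
    have hu : Function.Injective u.hom := (ModuleCat.mono_iff_injective u).mp ‹_›
    let π : J ⟶ ModuleCat.of R (J ⧸ LinearMap.range u.hom) := ModuleCat.ofHom (Submodule.mkQ _)
    have hS := DepthLib.shortExact_of_linearMap hu (Submodule.mkQ_surjective (LinearMap.range u.hom))
      (LinearMap.exact_map_mkQ_range u.hom)
    have hJdiv := exists_smul_eq_of_injective hf (Module.injective_module_of_injective_object R J)
    have hC' : HasInjectiveDimensionLT (ModuleCat.of R (J ⧸ LinearMap.range u.hom)) (n + 1) :=
      (hS.hasInjectiveDimensionLT_X₃_iff n ‹Injective J›).2 hC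
    have hdiv' : ∀ c : ModuleCat.of R (J ⧸ LinearMap.range u.hom), ∃ c', f • c' = c := fun c => by
      obtain ⟨j, rfl⟩ := Submodule.Quotient.mk_surjective _ c
      obtain ⟨j', hj'⟩ := hJdiv j
      exact ⟨Submodule.Quotient.mk j', by rw [← Submodule.Quotient.mk_smul, hj']⟩
    have hinj : Function.Injective (torMap (f := f) u).hom := fun a b e =>
      Subtype.ext (hu (congrArg Subtype.val e))
    have hsurj : Function.Surjective (torMap (f := f) π).hom := by
      rintro ⟨c, hc⟩
      obtain ⟨j, rfl⟩ := Submodule.Quotient.mk_surjective _ c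
      rw [Submodule.mem_torsionBy_iff, ← Submodule.Quotient.mk_smul,
        Submodule.Quotient.mk_eq_zero] at hc
      obtain ⟨c₀, hc₀⟩ := hc
      obtain ⟨c₁, hc₁⟩ := hdiv c₀
      refine ⟨⟨j - u.hom c₁, ?_⟩, Subtype.ext ?_⟩
      · rw [Submodule.mem_torsionBy_iff, smul_sub, ← map_smul, hc₁, hc₀, sub_self]
      · change Submodule.Quotient.mk (j - u.hom c₁) = _
        rw [Submodule.Quotient.eq]
        exact ⟨-c₁, by simp⟩
    have hex : Function.Exact (torMap (f := f) u).hom (torMap (f := f) π).hom := by
      rintro ⟨j, hj⟩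
      constructor
      · intro e
        have e' : (Submodule.Quotient.mk j : J ⧸ LinearMap.range u.hom) = 0 := congrArg Subtype.val e
        obtain ⟨c, rfl⟩ := (Submodule.Quotient.mk_eq_zero _).1 e'
        refine ⟨⟨c, ?_⟩, rfl⟩
        rw [Submodule.mem_torsionBy_iff] at hj ⊢
        exact hu (by rw [map_smul, hj, map_zero])
      · rintro ⟨c, hc⟩
        refine Subtype.ext ?_
        change Submodule.Quotient.mk j = (0 : J ⧸ LinearMap.range u.hom)
        rw [Submodule.Quotient.mk_eq_zero]
        exact ⟨c.1, congrArg Subtype.val hc⟩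
    have hT := DepthLib.shortExact_of_linearMap hinj hsurj hex
    exact (hT.hasInjectiveDimensionLT_X₃_iff n (injective_tor J)).1 (ih _ hdiv' hC')

/-- If `f` is regular on `R` and on `M` then `M/fM` over `R/f` has injective dimension one less. -/
theorem hasInjectiveDimensionLT_quot (hf : IsSMulRegular R f) (n : ℕ) (M : ModuleCat.{u} R)
    (hfM : IsSMulRegular M f) (hM : HasInjectiveDimensionLT M (n + 2))
    (X : ModuleCat.{u} (R ⧸ Ideal.span {f})) (q : M →+ X) (hq : Function.Surjective q)
    (hqs : ∀ (r : R) (m : M), q (r • m) = Ideal.Quotient.mk (Ideal.span {f}) r • q m)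
    (hker : ∀ m, q m = 0 → ∃ m', f • m' = m) :
    HasInjectiveDimensionLT X (n + 1) := by
  let ⟨J, _, u, _⟩ := EnoughInjectives.presentation M
  have hu : Function.Injective u.hom := (ModuleCat.mono_iff_injective u).mp ‹_›
  let C : ModuleCat.{u} R := ModuleCat.of R (J ⧸ LinearMap.range u.hom)
  let π : J ⟶ C := ModuleCat.ofHom (Submodule.mkQ _)
  have hS := DepthLib.shortExact_of_linearMap hu (Submodule.mkQ_surjective (LinearMap.range u.hom))
    (LinearMap.exact_map_mkQ_range u.hom)
  have hJdiv := exists_smul_eq_of_injective hf (Module.injective_module_of_injective_object R J)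
  have hC' : HasInjectiveDimensionLT C (n + 1) := (hS.hasInjectiveDimensionLT_X₃_iff n ‹Injective J›).2 hM
  have hdiv : ∀ c : C, ∃ c', f • c' = c := fun c => by
    obtain ⟨j, rfl⟩ := Submodule.Quotient.mk_surjective _ c
    obtain ⟨j', hj'⟩ := hJdiv j
    exact ⟨Submodule.Quotient.mk j', by rw [← Submodule.Quotient.mk_smul, hj']⟩
  -- the connecting map
  have hlift : ∀ c : tor f C, ∃ jm : J × M, π.hom jm.1 = c.1 ∧ u.hom jm.2 = f • jm.1 := by
    rintro ⟨c, hc⟩
    obtain ⟨j, rfl⟩ := Submodule.Quotient.mk_surjective _ c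
    rw [Submodule.mem_torsionBy_iff, ← Submodule.Quotient.mk_smul,
      Submodule.Quotient.mk_eq_zero] at hc
    obtain ⟨m, hm⟩ := hc
    exact ⟨(j, m), rfl, hm⟩
  choose lift hlift1 hlift2 using hlift
  have huniq : ∀ (c : tor f C) (j : J) (m : M), π.hom j = c.1 → u.hom m = f • j →
      q m = q (lift c).2 := by
    intro c j m hj hm
    have : π.hom j = π.hom (lift c).1 := hj.trans (hlift1 c).symm
    obtain ⟨m₀, hm₀⟩ := (Submodule.Quotient.eq (LinearMap.range u.hom)).1 this
    have h2 : m = (lift c).2 + f • m₀ := hu (by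
      rw [map_add, map_smul, hm₀, hm, hlift2, smul_sub]; abel)
    rw [h2, map_add, hqs, Ideal.Quotient.eq_zero_iff_mem.2 (Ideal.mem_span_singleton_self f),
      zero_smul, add_zero]
  let δ : tor f C ⟶ X := ModuleCat.ofHom
    { toFun := fun c => q (lift c).2
      map_add' := fun a b => by
        rw [← map_add]
        refine (huniq (a + b) ((lift a).1 + (lift b).1) _ ?_ ?_).symm
        · rw [map_add, hlift1, hlift1]; rfl
        · rw [map_add, hlift2, hlift2, smul_add]
      map_smul' := fun r a => by
        obtain ⟨r, rfl⟩ := Ideal.Quotient.mk_surjective r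
        rw [RingHom.id_apply, ← hqs]
        refine (huniq _ (r • (lift a).1) _ ?_ ?_).symm
        · rw [map_smul, hlift1]; rfl
        · rw [map_smul, hlift2, smul_comm] }
  have hsurj : Function.Surjective δ.hom := by
    intro x
    obtain ⟨m, rfl⟩ := hq x
    obtain ⟨j, hj⟩ := hJdiv (u.hom m)
    refine ⟨⟨π.hom j, ?_⟩, (huniq _ j m rfl hj.symm).symm⟩
    rw [Submodule.mem_torsionBy_iff, ← map_smul, hj]
    exact (Submodule.Quotient.mk_eq_zero _).2 ⟨m, rfl⟩
  have hinj : Function.Injective (torMap (f := f) π).hom := by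
    rw [injective_iff_map_eq_zero]
    rintro ⟨j, hj⟩ e
    have e' : (Submodule.Quotient.mk j : J ⧸ LinearMap.range u.hom) = 0 := congrArg Subtype.val e
    obtain ⟨m, rfl⟩ := (Submodule.Quotient.mk_eq_zero _).1 e'
    rw [Submodule.mem_torsionBy_iff] at hj
    have hm : m = 0 := hfM.right_eq_zero_of_smul (hu (by rw [map_smul, hj, map_zero]))
    exact Subtype.ext (by simp [hm])
  have hex : Function.Exact (torMap (f := f) π).hom δ.hom := by
    intro c
    constructor
    · intro e
      obtain ⟨m', hm'⟩ := hker _ e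
      refine ⟨⟨(lift c).1 - u.hom m', ?_⟩, Subtype.ext ?_⟩
      · rw [Submodule.mem_torsionBy_iff, smul_sub, ← map_smul, hm', hlift2, sub_self]
      · change π.hom ((lift c).1 - u.hom m') = c.1
        rw [map_sub, hlift1]
        exact sub_eq_self.2 ((Submodule.Quotient.mk_eq_zero _).2 ⟨m', rfl⟩)
    · rintro ⟨j, rfl⟩
      refine ((huniq _ j.1 0 rfl ?_).symm).trans (map_zero q)
      rw [map_zero, (Submodule.mem_torsionBy_iff f j.1).1 j.2]
  have hT := DepthLib.shortExact_of_linearMap hinj hsurj hex
  have := injective_tor (f := f) J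
  exact hT.hasInjectiveDimensionLT_X₃ (n + 1) (hasInjectiveDimensionLT_tor hf n C hdiv hC')
    inferInstance

/-- A module over `R/f` of injective dimension `≤ n` has dimension `≤ n+1` over `R`. -/
theorem hasInjectiveDimensionLT_restrictScalars (hf : IsSMulRegular R f) (n : ℕ)
    (X : ModuleCat.{u} (R ⧸ Ideal.span {f})) (hX : HasInjectiveDimensionLT X (n + 1)) :
    HasInjectiveDimensionLT ((ModuleCat.restrictScalars (Ideal.Quotient.mk (Ideal.span {f}))).obj X)
      (n + 2) := by
  induction n generalizing X with
  | zero =>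
    rw [zero_add, ← injective_iff_hasInjectiveDimensionLT_one] at hX
    let F := ModuleCat.restrictScalars (Ideal.Quotient.mk (Ideal.span {f}))
    let ⟨E, _, u, _⟩ := EnoughInjectives.presentation (F.obj X)
    have hu : Function.Injective u.hom := (ModuleCat.mono_iff_injective u).mp ‹_›
    have hEdiv := exists_smul_eq_of_injective hf (Module.injective_module_of_injective_object R E)
    have hmem : ∀ x : F.obj X, u.hom x ∈ Submodule.torsionBy R E f := fun x => by
      rw [Submodule.mem_torsionBy_iff, ← map_smul, ← map_zero u.hom]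
      congr 1
      change (Ideal.Quotient.mk (Ideal.span {f}) f) • (x : X) = (0 : X)
      rw [Ideal.Quotient.eq_zero_iff_mem.2 (Ideal.mem_span_singleton_self f), zero_smul]
      rfl
    let i : X ⟶ tor f E := ModuleCat.ofHom
      { toFun := fun x => ⟨u.hom x, hmem x⟩
        map_add' := fun x y => Subtype.ext (u.hom.map_add x y)
        map_smul' := fun r x => by
          obtain ⟨r, rfl⟩ := Ideal.Quotient.mk_surjective r
          exact Subtype.ext (u.hom.map_smul r x) }
    have hi : Function.Injective i.hom := fun a b e => hu (congrArg Subtype.val e)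
    have : Mono i := (ModuleCat.mono_iff_injective i).2 hi
    let p : tor f E ⟶ X := Injective.factorThru (𝟙 X) i
    have hip : i ≫ p = 𝟙 X := Injective.comp_factorThru _ _
    let := Module.compHom X (Ideal.Quotient.mk (Ideal.span {f}))
    let i' : F.obj X ⟶ ModuleCat.of R (Submodule.torsionBy R E f) :=
      ModuleCat.ofHom (LinearMap.codRestrict _ u.hom hmem)
    let p'' : Submodule.torsionBy R E f →ₗ[R] X :=
      { toFun := fun y => p.hom y
        map_add' := fun a b => p.hom.map_add a b
        map_smul' := fun r y => p.hom.map_smul (Ideal.Quotient.mk _ r) y }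
    let p' : ModuleCat.of R (Submodule.torsionBy R E f) ⟶ F.obj X := ModuleCat.ofHom p''
    have hip' : i' ≫ p' = 𝟙 (F.obj X) := by
      ext x
      have h := congr($(hip).hom x)
      exact h
    have hT := DepthLib.shortExact_of_linearMap (f := (Submodule.torsionBy R E f).subtype)
      (g := DistribSMul.toLinearMap R E f) (Submodule.injective_subtype _)
      (fun e => hEdiv e) (fun e => by
        constructor
        · exact fun h => ⟨⟨e, h⟩, rfl⟩
        · rintro ⟨y, rfl⟩; exact y.2)
    have hE1 : HasInjectiveDimensionLT (ModuleCat.of R (E : Type u)) 1 :=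
      injective_iff_hasInjectiveDimensionLT_one.1 ‹_›
    have h2 : HasInjectiveDimensionLT (ModuleCat.of R (E : Type u)) 2 :=
      hasInjectiveDimensionLT_of_ge _ 1 2 one_le_two
    have := hT.hasInjectiveDimensionLT_X₁ 1 hE1 h2
    exact (Retract.mk i' p' hip').hasInjectiveDimensionLT 2
  | succ n ih =>
    let F := ModuleCat.restrictScalars (Ideal.Quotient.mk (Ideal.span {f}))
    let ⟨J, _, u, _⟩ := EnoughInjectives.presentation X
    have hu : Function.Injective u.hom := (ModuleCat.mono_iff_injective u).mp ‹_›
    have hS := DepthLib.shortExact_of_linearMap hu (Submodule.mkQ_surjective (LinearMap.range u.hom))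
      (LinearMap.exact_map_mkQ_range u.hom)
    have h3 := ih _ ((hS.hasInjectiveDimensionLT_X₃_iff n ‹Injective J›).2 hX)
    have hJ1 : HasInjectiveDimensionLT J 1 := injective_iff_hasInjectiveDimensionLT_one.1 ‹_›
    have h2 := ih J (hasInjectiveDimensionLT_of_ge J 1 (n + 1) (by omega))
    have h2' : HasInjectiveDimensionLT (F.obj J) (n + 3) :=
      hasInjectiveDimensionLT_of_ge _ (n + 2) (n + 3) (by omega)
    exact (hS.map_of_exact F).hasInjectiveDimensionLT_X₁ (n + 2) h3 h2'

end Regular

end Groth.Agent.GorenLib
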