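import Groth.Agent.Lib.Goren.GorenDual27
import Groth.Agent.Lib.CAlgLow.FiniteRes
import Mathlib.CategoryTheory.Abelian.Ext
import Mathlib.CategoryTheory.Monoidal.Tor

/-!
# Tor against the injective hull of the residue field of a Gorenstein local ring
-/

set_option autoImplicit false
universe u

open CategoryTheory CategoryTheory.Limits IsLocalRing TensorProduct MonoidalCategory

noncomputable section

namespace Groth.Agent.GorenLib

/-- Homology of a complex in duality with another one. -/
theorem nonempty_homology_dual {R : Type u} [CommRing R] (E : Type u) [AddCommGroup E] [Module R E]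
    (hE : Module.Injective R E) {ι : Type} {cK cL : ComplexShape ι}
    (K : HomologicalComplex (ModuleCat.{u} R) cK) (L : HomologicalComplex (ModuleCat.{u} R) cL)
    {a b c : ι} (hKa : cK.prev b = a) (hKc : cK.next b = c) (hLc : cL.prev b = c) (hLa : cL.next b = a)
    (e : ∀ i, K.X i ≃ₗ[R] (L.X i →ₗ[R] E))
    (he : ∀ (i j) (y : K.X i), e j (K.d i j y) = e i y ∘ₗ (L.d j i).hom) :
    Nonempty (K.homology b ≃ₗ[R] (L.homology b →ₗ[R] E)) := by
  let Θ : K.cycles b →ₗ[R] (L.cycles b →ₗ[R] E) :=
    LinearMap.lcomp R E (L.iCycles b).hom ∘ₗ (e b).toLinearMap ∘ₗ (K.iCycles b).hom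
  have hπ := DMod.homologyπ_surjective L b
  let lπ : (L.homology b →ₗ[R] E) →ₗ[R] (L.cycles b →ₗ[R] E) := LinearMap.lcomp R E (L.homologyπ b).hom
  have hlπ : Function.Injective lπ := fun f g h =>
    LinearMap.ext fun η => by
      obtain ⟨z, rfl⟩ := hπ η
      exact LinearMap.congr_fun h z
  have hrange : ∀ z, Θ z ∈ LinearMap.range lπ := fun z => by
    have hk : LinearMap.ker (L.homologyπ b).hom ≤ LinearMap.ker (Θ z) := fun w hw => by
      obtain ⟨y, hy⟩ := (DMod.homologyπ_eq_zero_iff hLc w).1 hw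
      show e b (K.iCycles b z) (L.iCycles b w) = 0
      rw [← hy]
      refine (LinearMap.congr_fun (he b c (K.iCycles b z)) y).symm.trans ?_
      rw [DMod.d_iCycles, map_zero, LinearMap.zero_apply]
    refine ⟨(LinearMap.ker (L.homologyπ b).hom).liftQ (Θ z) hk ∘ₗ
      ((L.homologyπ b).hom.quotKerEquivOfSurjective hπ).symm.toLinearMap, LinearMap.ext fun w => ?_⟩
    have hw : ((L.homologyπ b).hom.quotKerEquivOfSurjective hπ).symm (L.homologyπ b w) = Submodule.Quotient.mk w := by
      rw [LinearEquiv.symm_apply_eq]; rfl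
    exact (congrArg ((LinearMap.ker (L.homologyπ b).hom).liftQ (Θ z) hk) hw).trans rfl
  let Φ : K.cycles b →ₗ[R] (L.homology b →ₗ[R] E) :=
    (LinearEquiv.ofInjective lπ hlπ).symm.toLinearMap ∘ₗ LinearMap.codRestrict _ Θ hrange
  have hΦ : ∀ z, lπ (Φ z) = Θ z := fun z =>
    congrArg Subtype.val ((LinearEquiv.ofInjective lπ hlπ).apply_symm_apply ⟨Θ z, hrange z⟩)
  have hker : LinearMap.ker Φ = LinearMap.ker (K.homologyπ b).hom := by
    ext z
    have h0 : Φ z = 0 ↔ Θ z = 0 := by rw [← hΦ]; exact (map_eq_zero_iff lπ hlπ).symm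
    rw [LinearMap.mem_ker, LinearMap.mem_ker, h0]
    refine Iff.trans ?_ (DMod.homologyπ_eq_zero_iff hKa z).symm
    constructor
    · intro hz
      have hk : LinearMap.ker (L.d b a).hom ≤ LinearMap.ker (e b (K.iCycles b z)) := fun x hx => by
        obtain ⟨w, rfl⟩ := DMod.exists_cycle hLa x hx
        exact LinearMap.congr_fun hz w
      obtain ⟨g, hg⟩ := hE.out ((LinearMap.ker (L.d b a).hom).liftQ (L.d b a).hom le_rfl)
        (LinearMap.ker_eq_bot.1 (Submodule.ker_liftQ_eq_bot _ _ _ le_rfl))
        ((LinearMap.ker (L.d b a).hom).liftQ (e b (K.iCycles b z)) hk)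
      refine ⟨(e a).symm g, (e b).injective ?_⟩
      rw [he, LinearEquiv.apply_symm_apply]
      exact LinearMap.ext fun x => hg (Submodule.Quotient.mk x)
    · rintro ⟨y, hy⟩
      refine LinearMap.ext fun w => ?_
      show e b (K.iCycles b z) (L.iCycles b w) = 0
      rw [← hy, he]
      show e a y (L.d b a (L.iCycles b w)) = 0
      rw [DMod.d_iCycles, map_zero]
  have hsurj : Function.Surjective Φ := fun g => by
    obtain ⟨g', hg'⟩ := hE.out (L.iCycles b).hom (DMod.iCycles_injective L b) (g ∘ₗ (L.homologyπ b).hom)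
    obtain ⟨z, hz⟩ := DMod.exists_cycle hKc ((e b).symm g') (show K.d b c _ = 0 from (e c).injective (by
      rw [he, LinearEquiv.apply_symm_apply, map_zero]
      refine LinearMap.ext fun y => ?_
      show g' (L.d c b y) = 0
      obtain ⟨w, hw⟩ := DMod.exists_cycle hLa (L.d c b y) (by
        rw [← ModuleCat.comp_apply, HomologicalComplex.d_comp_d]; rfl)
      refine (congrArg g' hw.symm).trans ((hg' w).trans ?_)
      show g (L.homologyπ b w) = 0
      rw [(DMod.homologyπ_eq_zero_iff hLc w).2 ⟨y, hw.symm⟩, map_zero]))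
    refine ⟨z, hlπ ((hΦ z).trans (LinearMap.ext fun w => ?_))⟩
    show e b (K.iCycles b z) (L.iCycles b w) = g (L.homologyπ b w)
    rw [hz, LinearEquiv.apply_symm_apply]
    exact hg' w
  exact ⟨((K.homologyπ b).hom.quotKerEquivOfSurjective (DMod.homologyπ_surjective K b)).symm ≪≫ₗ
    Submodule.quotEquivOfEq _ _ hker.symm ≪≫ₗ Φ.quotKerEquivOfSurjective hsurj⟩

variable {R : Type u} [CommRing R] (E : Type u) [AddCommGroup E] [Module R E]

/-- `E ⊗ F → Hom(Hom(F, R), E)`. -/
def contract (F : ModuleCat.{u} R) : E ⊗[R] F →ₗ[R] ((F ⟶ ModuleCat.of R R) →ₗ[R] E) :=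
  TensorProduct.lift (LinearMap.mk₂ R
    (fun (e : E) (v : F) => (LinearMap.toSpanSingleton R E e) ∘ₗ (LinearMap.applyₗ v) ∘ₗ
      (ModuleCat.homLinearEquiv (S := R) (M := F) (N := ModuleCat.of R R)).toLinearMap)
    (fun e e' v => LinearMap.ext fun φ => smul_add _ _ _)
    (fun r e v => LinearMap.ext fun φ => smul_comm _ _ _)
    (fun e v v' => LinearMap.ext fun φ => by
      show (φ.hom (v + v')) • e = φ.hom v • e + φ.hom v' • e
      rw [map_add, add_smul])
    (fun r e v => LinearMap.ext fun φ => by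
      show (φ.hom (r • v)) • e = r • (φ.hom v • e)
      rw [map_smul, smul_assoc]))

theorem contract_tmul (F : ModuleCat.{u} R) (e : E) (v : F) (φ : F ⟶ ModuleCat.of R R) :
    contract E F (e ⊗ₜ v) φ = φ.hom v • e := rfl

theorem contract_pi_bijective (n : ℕ) : Function.Bijective (contract E (ModuleCat.of R (Fin n → R))) := by
  classical
  let pr : Fin n → (ModuleCat.of R (Fin n → R) ⟶ ModuleCat.of R R) := fun j => ModuleCat.ofHom (LinearMap.proj j)
  have hexp : ∀ z : E ⊗[R] (Fin n → R),
      z = ∑ j, (contract E (ModuleCat.of R (Fin n → R)) z (pr j)) ⊗ₜ[R] (Pi.single j 1 : Fin n → R) := by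
    intro z
    induction z using TensorProduct.induction_on with
    | zero => simp
    | add a b ha hb =>
      simp only [map_add, LinearMap.add_apply, TensorProduct.add_tmul, Finset.sum_add_distrib]
      exact congrArg₂ (· + ·) ha hb
    | tmul e v =>
      have : ∀ j, (contract E (ModuleCat.of R (Fin n → R)) (e ⊗ₜ v) (pr j)) ⊗ₜ[R] (Pi.single j 1 : Fin n → R) =
          e ⊗ₜ[R] (v j • Pi.single j 1 : Fin n → R) := fun j => by
        rw [contract_tmul, TensorProduct.smul_tmul]
        rfl
      rw [Finset.sum_congr rfl fun j _ => this j, ← TensorProduct.tmul_sum, ← pi_eq_sum_univ' v]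
  refine ⟨fun a b h => (hexp a).trans (Eq.trans (by rw [h]) (hexp b).symm), fun g => ?_⟩
  refine ⟨∑ j, g (pr j) ⊗ₜ[R] (Pi.single j 1 : Fin n → R), LinearMap.ext fun φ => ?_⟩
  rw [map_sum, LinearMap.sum_apply]
  have hφ : φ = ∑ j, φ.hom (Pi.single j 1 : Fin n → R) • pr j := by
    refine ModuleCat.hom_ext (LinearMap.ext fun v => ?_)
    conv_lhs => rw [pi_eq_sum_univ' v, map_sum]
    rw [ModuleCat.hom_sum, LinearMap.sum_apply]
    refine Finset.sum_congr rfl fun j _ => ?_
    rw [map_smul]
    exact mul_comm _ _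
  conv_rhs => rw [hφ, map_sum]
  refine Finset.sum_congr rfl fun j _ => ?_
  rw [contract_tmul, map_smul]

theorem nonempty_tor_iso_dual_ext [IsNoetherianRing R] (hE : Module.Injective R E) (M : Type u) [AddCommGroup M]
    [Module R M] [Module.Finite R M] (i : ℕ) :
    Nonempty ((((Tor (ModuleCat.{u} R) i).obj (ModuleCat.of R E)).obj (ModuleCat.of R M)) ≃ₗ[R]
      (((Ext R (ModuleCat.{u} R) i).obj (Opposite.op (ModuleCat.of R M))).obj (ModuleCat.of R R) →ₗ[R] E)) := by
  let P := CAlgLow.FiniteRes.projRes (R := R) M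
  let G := (tensoringLeft (ModuleCat.{u} R)).obj (ModuleCat.of R E)
  have hb : ∀ j, Function.Bijective (contract E (P.complex.X j)) := fun j => contract_pi_bijective E _
  obtain ⟨e⟩ := nonempty_homology_dual E hE ((G.mapHomologicalComplex _).obj P.complex)
    (P.complex.linearYonedaObj R (ModuleCat.of R R)) (b := i) rfl rfl
    (show _ = (ComplexShape.down ℕ).next i by cases i <;> simp)
    (show _ = (ComplexShape.down ℕ).prev i by simp)
    (fun j => LinearEquiv.ofBijective _ (hb j))
    (fun j k y => by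
      show contract E (P.complex.X k) ((P.complex.d j k).hom.lTensor E y) = _
      refine LinearMap.ext fun φ => ?_
      show contract E (P.complex.X k) ((P.complex.d j k).hom.lTensor E y) φ =
        contract E (P.complex.X j) y (P.complex.d j k ≫ φ)
      induction y using TensorProduct.induction_on with
      | zero => simp
      | add a b ha hb => simp only [map_add, LinearMap.add_apply, ha, hb]
      | tmul e v => rfl)
  exact ⟨(P.isoLeftDerivedObj G i).toLinearEquiv ≪≫ₗ e ≪≫ₗ
    (P.isoExt i (ModuleCat.of R R)).toLinearEquiv.symm.congrLeft E R⟩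

theorem tor_hull_residueField {A : Type u} [CommRing A] [LocCoh.IsGorensteinLocalRing A] (d : ℕ)
    (hd : ringKrullDim A = d) (E : Type u) [AddCommGroup E] [Module A E] (f : ResidueField A →ₗ[A] E)
    (hf : InjHull.IsInjectiveHull f) :
    (∀ i : ℕ, i ≠ d → IsZero (((Tor (ModuleCat.{u} A) i).obj (ModuleCat.of A E)).obj
      (ModuleCat.of A (ResidueField A)))) ∧
    Nonempty ((((Tor (ModuleCat.{u} A) d).obj (ModuleCat.of A E)).obj (ModuleCat.of A (ResidueField A))) ≅
      ModuleCat.of A (ResidueField A)) := by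
  obtain ⟨D⟩ := exists_dualityData hd hf
  have hk : InjHullLib.powTors (maximalIdeal A) (ResidueField A) = ⊤ :=
    eq_top_iff.2 fun x _ => InjHullLib.mem_powTors_iff.2 ⟨1, fun a ha => by
      rw [pow_one] at ha
      obtain ⟨r, rfl⟩ := residue_surjective x
      rw [Algebra.smul_def]
      show residue A a * residue A r = 0
      rw [(residue_eq_zero_iff a).2 ha, zero_mul]⟩
  constructor
  · intro i hi
    obtain ⟨e⟩ := nonempty_tor_iso_dual_ext (R := A) E hf.isInjective (ResidueField A) i
    rw [DMod.isZero_iff_subsingleton, e.toEquiv.subsingleton_congr]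
    rcases lt_or_gt_of_ne hi with h | h
    · obtain ⟨e'⟩ := D.duality' i (ResidueField A) h.le
      rw [e'.toEquiv.subsingleton_congr]
      obtain ⟨p, hp⟩ : ∃ p, d - i = p + 1 := ⟨d - i - 1, by omega⟩
      rw [hp]
      exact LocCohLib.subsingleton_of_isPowerTorsion (maximalIdeal A) p (ResidueField A) fun x =>
        InjHullLib.mem_powTors_iff.1 (hk.ge (Submodule.mem_top (x := x)))
    · rw [subsingleton_dual_iff hf,
        (((LocCohLib.extNatIso (R := A) i).app (Opposite.op (ModuleCat.of A (ResidueField A)))).app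
          (ModuleCat.of A A)).toLinearEquiv.toEquiv.subsingleton_congr]
      haveI := (gorenstein_of_dim hd).2.1
      exact HasInjectiveDimensionLT.subsingleton (ModuleCat.of A A) (d + 1) i (by omega) _
  · obtain ⟨e⟩ := nonempty_tor_iso_dual_ext (R := A) E hf.isInjective (ResidueField A) d
    obtain ⟨e'⟩ := D.duality' d (ResidueField A) le_rfl
    rw [Nat.sub_self] at e'
    exact ⟨(e ≪≫ₗ e' ≪≫ₗ LocCohLib.zeroEquiv (maximalIdeal A) (ResidueField A) ≪≫ₗ
      LinearEquiv.ofTop _ hk).toModuleIso⟩

end Groth.Agent.GorenLib
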